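import Cfsg.Agent.Lib.ClassSizeTop.Basic
import Cfsg.Agent.Lib.ClassSize.Cover

/-!
Class sizes `{1, m, m * n}` with `m`, `n` coprime: basic facts on primary elements.
-/

set_option autoImplicit false

namespace Cfsg.Agent.Lib.ClassSizeMMN

open Subgroup Cfsg.Agent.Lib.ClassSizeTop

variable {G : Type*} [Group G]

/-- centralizer of an element -/
abbrev C (x : G) : Subgroup G := centralizer ({x} : Set G)

/-- an element of `p`-power order -/
def IsPEl (p : ℕ) (x : G) : Prop := ∃ k, orderOf x = p ^ k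

/-- exponent of `p` in the order of a subgroup -/
noncomputable def vp (p : ℕ) (H : Subgroup G) : ℕ := (Nat.card H).factorization p

/-- a subgroup of `H` of maximal `p`-power order -/
def IsFull (p : ℕ) (H W : Subgroup G) : Prop :=
  W ≤ H ∧ IsPGroup p W ∧ Nat.card W = p ^ vp p H

theorem mem_C_comm {x y : G} : y ∈ C x ↔ x ∈ C y := by rw [mem_cent, mem_cent, eq_comm]

theorem center_le_C (x : G) : center G ≤ C x := fun _ hz => mem_cent.2 (mem_center_iff.1 hz x).symm

theorem IsPEl.conj {p : ℕ} {x : G} (h : IsPEl p x) (g : G) : IsPEl p (g * x * g⁻¹) := by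
  obtain ⟨k, hk⟩ := h
  exact ⟨k, by
    rw [← hk]
    exact orderOf_injective (MulAut.conj g).toMonoidHom (MulAut.conj g).injective x⟩

theorem IsPEl.coprime {p q : ℕ} (hp : p.Prime) (hq : q.Prime) (hpq : p ≠ q) {a b : G}
    (ha : IsPEl p a) (hb : IsPEl q b) : (orderOf a).Coprime (orderOf b) := by
  obtain ⟨i, hi⟩ := ha
  obtain ⟨j, hj⟩ := hb
  rw [hi, hj]
  exact ((Nat.coprime_primes hp hq).2 hpq).pow i j

theorem IsPEl.coprime_of {p : ℕ} {a b : G} (ha : IsPEl p a) (hb : (orderOf b).Coprime p) :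
    (orderOf a).Coprime (orderOf b) := by
  obtain ⟨i, hi⟩ := ha
  rw [hi]
  exact hb.symm.pow_left i

theorem IsPEl.coprime_prime {p q : ℕ} (hp : p.Prime) (hq : q.Prime) (hpq : p ≠ q) {a : G}
    (ha : IsPEl p a) : (orderOf a).Coprime q := by
  obtain ⟨i, hi⟩ := ha
  rw [hi]
  exact ((Nat.coprime_primes hp hq).2 hpq).pow_left i

theorem orderOf_dvd_of_mem_zpowers {x y : G} (h : y ∈ zpowers x) : orderOf y ∣ orderOf x := by
  obtain ⟨i, rfl⟩ := h
  exact orderOf_dvd_of_pow_eq_one (by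
    rw [← zpow_natCast, ← zpow_mul, mul_comm, zpow_mul, zpow_natCast, pow_orderOf_eq_one,
      one_zpow])

theorem pel_of_mem_pgroup {p : ℕ} [Fact p.Prime] {W : Subgroup G} (hW : IsPGroup p W) {x : G}
    (hx : x ∈ W) : IsPEl p x := by
  obtain ⟨k, hk⟩ := IsPGroup.iff_orderOf.1 hW ⟨x, hx⟩
  exact ⟨k, by rwa [Subgroup.orderOf_mk] at hk⟩

variable [Finite G]

/-- An element lies in a subgroup containing all its primary parts. -/
theorem mem_of_parts (H : Subgroup G) :
    ∀ x : G, (∀ p : ℕ, p.Prime → ∀ a ∈ zpowers x, IsPEl p a → a ∈ H) → x ∈ H := by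
  suffices h : ∀ (o : ℕ) (x : G), orderOf x = o →
      (∀ p : ℕ, p.Prime → ∀ a ∈ zpowers x, IsPEl p a → a ∈ H) → x ∈ H from fun x => h _ x rfl
  intro o
  induction o using Nat.strong_induction_on with
  | _ o ih =>
    intro x hx hparts
    by_cases h1 : x = 1
    · rw [h1]; exact H.one_mem
    obtain ⟨p, hp, hpd⟩ := Nat.exists_prime_and_dvd fun e => h1 (orderOf_eq_one_iff.1 e)
    haveI := Fact.mk hp
    obtain ⟨a, b, he, -, ha, hb, hax, hbx⟩ := ClassSize.exists_pParts (p := p) x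
    have hlt : orderOf b < o := by
      refine lt_of_le_of_ne (hx ▸ Nat.le_of_dvd (orderOf_pos x) (orderOf_dvd_of_mem_zpowers hbx))
        fun e => ?_
      rw [e, ← hx] at hb
      exact (Nat.Prime.coprime_iff_not_dvd hp).1 hb.symm hpd
    have hb' : b ∈ H := ih _ hlt b rfl fun q hq c hc hcq =>
      hparts q hq c (zpowers_le.2 hbx hc) hcq
    rw [he]
    exact H.mul_mem (hparts p hp a hax ha) hb'

theorem exists_part {H : Subgroup G} {x : G} (hx : x ∉ H) :
    ∃ p : ℕ, p.Prime ∧ ∃ a ∈ zpowers x, IsPEl p a ∧ a ∉ H := by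
  by_contra h
  push Not at h
  exact hx (mem_of_parts H x h)

theorem C_le_of_mem_zpowers {x a : G} (h : a ∈ zpowers x) : C x ≤ C a :=
  cent_le_cent_of_mem_zpowers h

theorem vp_add_idx (p : ℕ) (x : G) :
    vp p (C x) + (idx x).factorization p = (Nat.card G).factorization p := by
  rw [← (C x).card_mul_index, Nat.factorization_mul Nat.card_pos.ne' FiniteIndex.index_ne_zero]
  rfl

theorem vp_mono {p : ℕ} {H K : Subgroup G} (h : H ≤ K) : vp p H ≤ vp p K :=
  (Nat.factorization_le_iff_dvd Nat.card_pos.ne' Nat.card_pos.ne').2 (card_dvd_of_le h) p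

theorem le_vp_of_pgroup {p k : ℕ} [hp : Fact p.Prime] {H W : Subgroup G} (h : W ≤ H)
    (hW : Nat.card W = p ^ k) : k ≤ vp p H :=
  (hp.out.pow_dvd_iff_le_factorization Nat.card_pos.ne').1 (hW ▸ card_dvd_of_le h)

theorem exists_full (p : ℕ) [Fact p.Prime] (H : Subgroup G) : ∃ W, IsFull p H W := by
  obtain ⟨Q⟩ : Nonempty (Sylow p H) := inferInstance
  exact ⟨(Q : Subgroup H).map H.subtype, map_subtype_le _, Q.isPGroup'.map _, by
    rw [card_map_of_injective H.subtype_injective, Q.card_eq_multiplicity]; rfl⟩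

theorem IsFull.of_le {p : ℕ} {H K W : Subgroup G} (h : IsFull p H W) (hW : W ≤ K)
    (hv : vp p K = vp p H) : IsFull p K W := ⟨hW, h.2.1, by rw [h.2.2, hv]⟩

/-- A `p`-element of `H` is conjugate in `H` into a full `p`-subgroup. -/
theorem IsFull.conj_mem {p : ℕ} [Fact p.Prime] {H W : Subgroup G} (hW : IsFull p H W) {x : G}
    (hx : x ∈ H) (hxp : IsPEl p x) : ∃ h ∈ H, h * x * h⁻¹ ∈ W := by
  obtain ⟨k, hk⟩ := hxp
  have hpg : IsPGroup p (zpowers (⟨x, hx⟩ : H)) :=
    IsPGroup.of_card (n := k) (by rw [Nat.card_zpowers, Subgroup.orderOf_mk, hk])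
  obtain ⟨R, hR⟩ := hpg.exists_le_sylow
  let Q : Sylow p H := Sylow.ofCard (W.subgroupOf H)
    (by rw [Nat.card_congr (subgroupOfEquivOfLe hW.1).toEquiv, hW.2.2]; rfl)
  obtain ⟨c, hc⟩ := MulAction.exists_smul_eq H R Q
  refine ⟨c, c.2, ?_⟩
  have h1 : c * (⟨x, hx⟩ : H) * c⁻¹ ∈ (Q : Subgroup H) := by
    rw [← hc, Sylow.coe_subgroup_smul, Subgroup.mem_pointwise_smul_iff_inv_smul_mem]
    simpa [MulAut.smul_def, mul_assoc] using hR (mem_zpowers _)
  rw [Sylow.coe_ofCard] at h1
  exact mem_subgroupOf.1 h1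

/-- exponent of `p` in the centre -/
noncomputable def vz (G : Type*) [Group G] (p : ℕ) : ℕ := vp p (center G)

theorem exists_noncentral_pel {p : ℕ} [Fact p.Prime] {H : Subgroup G} (h : vz G p < vp p H) :
    ∃ x ∈ H, IsPEl p x ∧ x ∉ center G := by
  obtain ⟨W, hWH, hWp, hWc⟩ := exists_full p H
  by_contra hc
  push Not at hc
  have hle : W ≤ center G := fun x hx => hc x (hWH hx) (pel_of_mem_pgroup hWp hx)
  exact absurd (le_vp_of_pgroup hle hWc) (not_le.2 h)

theorem vz_lt_of_mem {p : ℕ} [Fact p.Prime] {H : Subgroup G} (hZ : center G ≤ H) {x : G}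
    (hxH : x ∈ H) (hxp : IsPEl p x) (hx : x ∉ center G) : vz G p < vp p H := by
  obtain ⟨W, hWZ, hWp, hWc⟩ := exists_full p (center G)
  haveI : W.Normal := ⟨fun w hw g => by
    rw [mem_center_iff.1 (hWZ hw) g, mul_inv_cancel_right]; exact hw⟩
  obtain ⟨k, hk⟩ := hxp
  have hxpg : IsPGroup p (zpowers x) := IsPGroup.of_card (n := k) (by rw [Nat.card_zpowers, hk])
  have hS := hWp.to_sup_of_normal_left hxpg
  obtain ⟨j, hj⟩ := IsPGroup.iff_card.1 hS
  have hlt : W < W ⊔ zpowers x := lt_of_le_of_ne le_sup_left fun e =>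
    hx (hWZ (e ▸ mem_sup_right (mem_zpowers x)))
  have h1 : Nat.card W < Nat.card (W ⊔ zpowers x : Subgroup G) := by
    rcases (card_le_of_le hlt.le).lt_or_eq with h | h
    · exact h
    · exact absurd (eq_of_le_of_card_ge hlt.le h.ge) hlt.ne
  rw [hWc, hj] at h1
  have h2 : vp p (center G) < j := (Nat.pow_lt_pow_iff_right (Fact.out : p.Prime).one_lt).1 h1
  exact h2.trans_le (le_vp_of_pgroup (sup_le (hWZ.trans hZ) (zpowers_le.2 hxH)) hj)

theorem vz_lt_C {p : ℕ} [Fact p.Prime] {x : G} (hxp : IsPEl p x) (hx : x ∉ center G) :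
    vz G p < vp p (C x) :=
  vz_lt_of_mem (center_le_C x) (mem_cent.2 rfl) hxp hx

omit [Finite G] in
theorem not_central_conj {x : G} (hx : x ∉ center G) (g : G) : g * x * g⁻¹ ∉ center G := fun h =>
  hx (by simpa [mul_assoc] using Subgroup.Normal.conj_mem inferInstance _ h g⁻¹)

theorem exists_conj_mem_sylow {p : ℕ} [Fact p.Prime] {x : G} (hx : IsPEl p x) (P : Sylow p G) :
    ∃ g : G, g * x * g⁻¹ ∈ (P : Subgroup G) := by
  obtain ⟨k, hk⟩ := hx
  have hpg : IsPGroup p (zpowers x) := IsPGroup.of_card (n := k) (by rw [Nat.card_zpowers, hk])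
  obtain ⟨R, hR⟩ := hpg.exists_le_sylow
  obtain ⟨g, hg⟩ := MulAction.exists_smul_eq G R P
  refine ⟨g, ?_⟩
  rw [← hg, Sylow.coe_subgroup_smul, Subgroup.mem_pointwise_smul_iff_inv_smul_mem]
  simpa [MulAut.smul_def, mul_assoc] using hR (mem_zpowers x)

omit [Finite G] in
/-- conjugation transports commutation -/
theorem conj_mem_C {x y : G} (h : y ∈ C x) (g : G) : g * y * g⁻¹ ∈ C (g * x * g⁻¹) := by
  rw [show C (g * x * g⁻¹) = _ from cent_conj g x]
  exact mem_map_of_mem _ h

omit [Finite G] in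
theorem comm_conj {x : G} (h : ∀ a ∈ C x, ∀ b ∈ C x, a * b = b * a) (g : G) :
    ∀ a ∈ C (g * x * g⁻¹), ∀ b ∈ C (g * x * g⁻¹), a * b = b * a := by
  intro a ha b hb
  rw [show C (g * x * g⁻¹) = _ from cent_conj g x] at ha hb
  obtain ⟨a', ha', rfl⟩ := ha
  obtain ⟨b', hb', rfl⟩ := hb
  rw [← map_mul, h a' ha' b' hb', map_mul]

omit [Finite G] in
theorem le_C_of_comm {x y : G} (h : ∀ a ∈ C x, ∀ b ∈ C x, a * b = b * a) (hy : y ∈ C x) :
    C x ≤ C y := fun a ha => mem_cent.2 (h a ha y hy)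

/-- The class sizes are `1`, `m` and `m * n`. -/
structure Sizes (G : Type*) [Group G] (m n : ℕ) : Prop where
  hm : 1 < m
  hn : 1 < n
  cop : m.Coprime n
  cases : ∀ x : G, idx x = 1 ∨ idx x = m ∨ idx x = m * n
  exM : ∃ x : G, idx x = m
  exN : ∃ x : G, idx x = m * n
  noDF : ∀ A B : Subgroup G, A.Normal → B.Normal → A ⊓ B = ⊥ → A ⊔ B = ⊤ → IsMulCommutative A →
    A = ⊥

namespace Sizes

variable {m n : ℕ} (S : Sizes G m n)
include S

omit [Finite G] in
theorem m_lt : m < m * n := lt_mul_of_one_lt_right (zero_lt_one.trans S.hm) S.hn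

omit [Finite G] in
theorem m_ne : m ≠ m * n := S.m_lt.ne

theorem idx_or {x : G} (hx : x ∉ center G) : idx x = m ∨ idx x = m * n :=
  (S.cases x).resolve_left fun e => hx (idx_eq_one_iff.1 e)

theorem noncentral {x : G} (h : idx x = m ∨ idx x = m * n) : x ∉ center G := fun hc => by
  have h1 := idx_eq_one_iff.2 hc
  have h2 := S.hm
  have h3 := S.m_lt
  omega

theorem idx_le {x : G} : idx x ≤ m * n := by
  have h2 := S.hm
  have h3 := S.m_lt
  rcases S.cases x with e | e | e <;> omega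

theorem eq_of_N {x y : G} (hy : idx y = m * n) (h : C y ≤ C x) (hx : idx x = m * n) : C y = C x :=
  eq_of_le_of_index_le h (le_of_eq (hy.trans hx.symm))

/-- a subgroup centraliser of type `m * n` is minimal -/
theorem N_eq_of_le {x y : G} (hx : idx x = m * n) (h : C y ≤ C x) : C y = C x := by
  refine eq_of_le_of_index_le h ?_
  show idx y ≤ idx x
  rw [hx]; exact S.idx_le

theorem N_of_le {x y : G} (hx : idx x = m * n) (h : C y ≤ C x) : idx y = m * n := by
  show (C y).index = _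
  rw [S.N_eq_of_le hx h]
  exact hx

/-- elements of coprime order are central in a centraliser of type `m * n` -/
theorem N_central {g y : G} (hg : idx g = m * n) (hy : y ∈ C g)
    (hco : (orderOf g).Coprime (orderOf y)) : C g ≤ C y := by
  have hC := cent_mul_of_coprime (show Commute g y from (mem_cent.1 hy).symm) hco
  have h : C (g * y) = C g := S.N_eq_of_le hg (hC.trans_le inf_le_left)
  rw [← h]
  exact hC.trans_le inf_le_right

theorem M_eq_of_le {u v : G} (hu : idx u = m) (hv : v ∉ center G) (h : C u ≤ C v) :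
    idx v = m ∧ C u = C v := by
  have h1 : idx v ∣ idx u := index_dvd_of_le h
  have h2 : idx v = m := (S.idx_or hv).resolve_right fun e => by
    rw [hu, e] at h1
    exact absurd (Nat.le_of_dvd (zero_lt_one.trans S.hm) h1) (not_le.2 S.m_lt)
  exact ⟨h2, eq_of_le_of_index_le h (le_of_eq (hu.trans h2.symm))⟩

theorem M_central {u y : G} (hu : idx u = m) (hy : y ∈ C u)
    (hco : (orderOf u).Coprime (orderOf y)) (h : idx (u * y) = m) : C u ≤ C y := by
  have hC := cent_mul_of_coprime (show Commute u y from (mem_cent.1 hy).symm) hco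
  have : C (u * y) = C u :=
    eq_of_le_of_index_le (hC.trans_le inf_le_left) (le_of_eq (h.trans hu.symm))
  rw [← this]
  exact hC.trans_le inf_le_right

theorem vp_eq_of_idx {x y : G} (h : idx x = idx y) (p : ℕ) : vp p (C x) = vp p (C y) := by
  have h1 := vp_add_idx p x
  have h2 := vp_add_idx p y
  rw [h] at h1
  omega

omit [Finite G] in
theorem factorization_mn {q : ℕ} (hq : q.Prime) (hqm : q ∣ m) :
    (m * n).factorization q = m.factorization q := by
  have hm := S.hm
  have hn := S.hn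
  rw [Nat.factorization_mul (by omega) (by omega), Finsupp.add_apply,
    Nat.factorization_eq_zero_of_not_dvd fun h => hq.not_dvd_one (S.cop ▸ Nat.dvd_gcd hqm h),
    add_zero]

theorem vq_add {q : ℕ} (hq : q.Prime) (hqm : q ∣ m) {x : G} (hx : x ∉ center G) :
    vp q (C x) + m.factorization q = (Nat.card G).factorization q := by
  have h := vp_add_idx q x
  rcases S.idx_or hx with e | e <;> rw [e] at h
  · exact h
  · rwa [S.factorization_mn hq hqm] at h

theorem vq_eq {q : ℕ} (hq : q.Prime) (hqm : q ∣ m) {x y : G} (hx : x ∉ center G)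
    (hy : y ∉ center G) : vp q (C x) = vp q (C y) := by
  have := S.vq_add hq hqm hx
  have := S.vq_add hq hqm hy
  omega

omit S in
theorem exists_noncentral_of_dvd {p : ℕ} [Fact p.Prime] {x : G} (h : p ∣ idx x) :
    ∃ a : G, IsPEl p a ∧ a ∉ center G := by
  by_contra hc
  push Not at hc
  obtain ⟨P⟩ : Nonempty (Sylow p G) := inferInstance
  refine ClassSize.not_central_of_dvd (P := P) h ?_
  rw [centralizer_eq_top_iff_subset]
  exact fun v hv => hc v (pel_of_mem_pgroup P.isPGroup' hv)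

/-- every noncentral centraliser contains a noncentral `q`-element -/
theorem vz_lt {q : ℕ} (hq : q.Prime) (hqm : q ∣ m) {x : G} (hx : x ∉ center G) :
    vz G q < vp q (C x) := by
  haveI := Fact.mk hq
  obtain ⟨u, hu⟩ := S.exM
  obtain ⟨a, ha, hac⟩ := exists_noncentral_of_dvd (p := q) (x := u) (hu ▸ hqm)
  rw [S.vq_eq hq hqm hx hac]
  exact vz_lt_C ha hac

theorem exists_qel {q : ℕ} (hq : q.Prime) (hqm : q ∣ m) {x : G} (hx : x ∉ center G) :
    ∃ u ∈ C x, IsPEl q u ∧ u ∉ center G :=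
  haveI := Fact.mk hq
  exists_noncentral_pel (S.vz_lt hq hqm hx)

theorem not_dvd_M {r : ℕ} (hr : r.Prime) (hrn : r ∣ n) {x : G} (hx : idx x = m) : ¬ r ∣ idx x := by
  rw [hx]
  exact fun h => hr.not_dvd_one (S.cop ▸ Nat.dvd_gcd h hrn)

/-- a centraliser of type `m` contains a conjugate of every element of order prime to `m` -/
theorem conj_mem_M {r : ℕ} (hr : r.Prime) (hrn : r ∣ n) {x : G} (hx : idx x = m) {a : G}
    (ha : IsPEl r a) : ∃ g : G, g * a * g⁻¹ ∈ C x := by
  haveI := Fact.mk hr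
  obtain ⟨P, hP⟩ := ClassSize.exists_sylow_le_centralizer (p := r) (S.not_dvd_M hr hrn hx)
  obtain ⟨g, hg⟩ := exists_conj_mem_sylow ha P
  exact ⟨g, hP hg⟩

theorem exists_noncentral_n {r : ℕ} (hr : r.Prime) (hrn : r ∣ n) :
    ∃ a : G, IsPEl r a ∧ a ∉ center G := by
  haveI := Fact.mk hr
  obtain ⟨x, hx⟩ := S.exN
  exact exists_noncentral_of_dvd (x := x) (hx ▸ hrn.mul_left m)

/-- only the primes of `m * n` divide the order -/
theorem dvd_of_dvd_card {r : ℕ} (hr : r.Prime) (h : r ∣ Nat.card G) : r ∣ m ∨ r ∣ n := by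
  haveI := Fact.mk hr
  by_contra hc
  push Not at hc
  obtain ⟨R⟩ : Nonempty (Sylow r G) := inferInstance
  have htop : centralizer ((R : Subgroup G) : Set G) = ⊤ := by
    refine ClassSize.eq_top_of_forall_exists_conj_mem _ fun g => ?_
    obtain ⟨Q, hQ⟩ := ClassSize.exists_sylow_le_centralizer (p := r) (x := g) (by
      show ¬ r ∣ idx g
      rcases S.cases g with e | e | e <;> rw [e]
      · exact hr.not_dvd_one
      · exact hc.1
      · exact fun hd => ((Nat.Prime.dvd_mul hr).1 hd).elim hc.1 hc.2)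
    obtain ⟨x, hx⟩ := MulAction.exists_smul_eq G Q R
    refine ⟨x, ?_⟩
    rw [mem_centralizer_iff]
    intro v hv
    rw [← hx, SetLike.mem_coe, Sylow.coe_subgroup_smul,
      Subgroup.mem_pointwise_smul_iff_inv_smul_mem] at hv
    have hv' : x⁻¹ * v * x ∈ (Q : Subgroup G) := by simpa [MulAut.smul_def, mul_assoc] using hv
    have h5 := mem_cent.1 (hQ hv')
    calc v * (x * g * x⁻¹) = x * (x⁻¹ * v * x * g) * x⁻¹ := by group
      _ = x * g * x⁻¹ * v := by rw [h5]; group
  have hR : (R : Subgroup G) ≤ center G := centralizer_eq_top_iff_subset.1 htop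
  have hcomm : ∀ v ∈ (R : Subgroup G), ∀ g : G, g * v = v * g := fun v hv g =>
    mem_center_iff.1 (hR hv) g
  haveI : (R : Subgroup G).Normal :=
    ⟨fun v hv g => by rw [hcomm v hv g, mul_inv_cancel_right]; exact hv⟩
  obtain ⟨N, hN⟩ := exists_left_complement'_of_coprime R.card_coprime_index
  have hNn : N.Normal := by
    refine ⟨fun v hv g => ?_⟩
    obtain ⟨⟨⟨a, ha⟩, ⟨b, hb⟩⟩, rfl⟩ := hN.2 g
    show a * b * v * (a * b)⁻¹ ∈ N
    rw [show a * b * v * (a * b)⁻¹ = a * (b * v * b⁻¹) * a⁻¹ by group, ← hcomm b hb v,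
      mul_inv_cancel_right]
    exact N.mul_mem (N.mul_mem ha hv) (N.inv_mem ha)
  haveI : IsMulCommutative (R : Subgroup G) :=
    ⟨⟨fun a b => Subtype.ext (hcomm b b.2 a)⟩⟩
  have hbot := S.noDF R N inferInstance hNn
    (disjoint_iff.1 hN.disjoint.symm) (by rw [sup_comm]; exact hN.sup_eq_top) inferInstance
  have := (Nat.Prime.pow_dvd_iff_le_factorization hr Nat.card_pos.ne').1 (by rwa [pow_one])
  have h2 := R.card_eq_multiplicity
  rw [hbot, card_bot] at h2
  have h3 := Nat.one_lt_pow (n := (Nat.card G).factorization r) (by omega) hr.one_lt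
  omega

end Sizes

end Cfsg.Agent.Lib.ClassSizeMMN
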