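import Cfsg.Agent.Lib.ClassSizeMMN.Basic
import Cfsg.Agent.Lib.ClassSizeIto.TwoSizes

/-!
Class sizes `{1, m, m * n}`: centralisers of type `m * n` of elements of order prime to some prime
divisor of `m` are abelian.
-/

set_option autoImplicit false
set_option linter.style.haveILetI false

namespace Cfsg.Agent.Lib.ClassSizeMMN

open Subgroup Cfsg.Agent.Lib.ClassSizeTop

variable {G : Type*} [Group G]

theorem idx_subgroup {D : Subgroup G} (x : D) : idx x = (C (x : G)).relIndex D := by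
  show (C x).index = ((C (x : G)).subgroupOf D).index
  congr 1
  ext y
  rw [mem_subgroupOf, mem_cent, mem_cent, Subtype.ext_iff, Subgroup.coe_mul, Subgroup.coe_mul]

variable [Finite G]

theorem IsFull.exists_conj {p : ℕ} [Fact p.Prime] {H W W' : Subgroup G} (hW : IsFull p H W)
    (hW' : IsFull p H W') : ∃ d ∈ H, ∀ w : G, w ∈ W' ↔ d⁻¹ * w * d ∈ W := by
  let Q : Sylow p H := Sylow.ofCard (W.subgroupOf H)
    (by rw [Nat.card_congr (subgroupOfEquivOfLe hW.1).toEquiv, hW.2.2]; rfl)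
  let Q' : Sylow p H := Sylow.ofCard (W'.subgroupOf H)
    (by rw [Nat.card_congr (subgroupOfEquivOfLe hW'.1).toEquiv, hW'.2.2]; rfl)
  obtain ⟨c, hc⟩ := MulAction.exists_smul_eq H Q Q'
  have key : ∀ w : H, (w : G) ∈ W' ↔ (c : G)⁻¹ * w * c ∈ W := by
    intro w
    have h1 : w ∈ (Q' : Subgroup H) ↔ c⁻¹ * w * c ∈ (Q : Subgroup H) := by
      rw [← hc, Sylow.coe_subgroup_smul, Subgroup.mem_pointwise_smul_iff_inv_smul_mem]
      simp [MulAut.smul_def, mul_assoc]
    rw [Sylow.coe_ofCard, Sylow.coe_ofCard, mem_subgroupOf, mem_subgroupOf] at h1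
    simpa using h1
  refine ⟨c, c.2, fun w => ⟨fun hw => (key ⟨w, hW'.1 hw⟩).1 hw, fun hw => ?_⟩⟩
  have hwH : w ∈ H := by
    have := H.mul_mem (H.mul_mem c.2 (hW.1 hw)) (H.inv_mem c.2)
    simpa [mul_assoc] using this
  exact (key ⟨w, hwH⟩).2 hw

namespace Sizes

variable {m n : ℕ} (S : Sizes G m n)
include S

/-- no element of order prime to `q` and type `m * n` centralises a `q`-element of type `m` -/
theorem no_mixed {q : ℕ} (hq : q.Prime) (hqm : q ∣ m) {g : G} (hg : idx g = m * n)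
    (hgq : (orderOf g).Coprime q) {u : G} (hu : u ∈ C g) (huq : IsPEl q u) (hum : idx u = m) :
    False := by
  haveI := Fact.mk hq
  set D := C u with hD
  have huc : u ∉ center G := S.noncentral (Or.inl hum)
  have hgc : g ∉ center G := S.noncentral (Or.inr hg)
  have hgD : C g ≤ D := S.N_central hg hu (huq.coprime_of hgq).symm
  obtain ⟨W0, hW0⟩ := exists_full q (C g)
  have hW0D : IsFull q D W0 := hW0.of_le (hW0.1.trans hgD) (S.vq_eq hq hqm huc hgc)
  have hW0c : ∀ w ∈ W0, C g ≤ C w := fun w hw =>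
    S.N_central hg (hW0.1 hw) ((pel_of_mem_pgroup hW0.2.1 hw).coprime_of hgq).symm
  have hW0comm : ∀ v ∈ W0, ∀ w ∈ W0, v * w = w * v := fun v hv w hw =>
    mem_cent.1 (hW0c w hw (hW0.1 hv))
  -- centralisers in `D` of elements of order prime to `q`
  have hinf : ∀ x ∈ D, (orderOf x).Coprime q → D ⊓ C x = C (u * x) := fun x hx hxq =>
    (cent_mul_of_coprime (show Commute u x from (mem_cent.1 hx).symm) (huq.coprime_of hxq)).symm
  have hux : ∀ x ∈ D, (orderOf x).Coprime q → u * x ∉ center G := fun x hx hxq hc => huc (by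
    rw [mem_center_iff]
    intro y
    have h1 : y ∈ C (u * x) := mem_cent.2 (mem_center_iff.1 hc y)
    rw [← hinf x hx hxq] at h1
    exact mem_cent.1 h1.1)
  -- `D` centralises a Sylow `q`-subgroup of itself
  have hDW : ∀ x ∈ D, ∀ w ∈ W0, x * w = w * x := by
    have htop : (centralizer (W0 : Set G)).subgroupOf D = ⊤ := by
      refine ClassSize.eq_top_of_forall_exists_conj_mem _ fun x => ?_
      obtain ⟨a, b, he, hcomm, ha, hb, haz, hbz⟩ := ClassSize.exists_pParts (p := q) (x : G)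
      have haD : a ∈ D := zpowers_le.2 x.2 haz
      have hbD : b ∈ D := zpowers_le.2 x.2 hbz
      obtain ⟨W', hW'⟩ := exists_full q (D ⊓ C b)
      have hW'D : IsFull q D W' := hW'.of_le (hW'.1.trans inf_le_left) (by
        rw [hinf b hbD hb]; exact S.vq_eq hq hqm huc (hux b hbD hb))
      obtain ⟨d, hd, hdW⟩ := hW0D.exists_conj hW'D
      obtain ⟨h, hh, hha⟩ := hW'.conj_mem (mem_inf.2 ⟨haD, mem_cent.2 hcomm.eq⟩) ha
      refine ⟨⟨d⁻¹ * h, D.mul_mem (D.inv_mem hd) hh.1⟩, ?_⟩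
      rw [mem_subgroupOf, mem_centralizer_iff]
      intro w hw
      have hw' : d * w * d⁻¹ ∈ W' := (hdW _).2 (by simpa [mul_assoc] using hw)
      have h1 : d * w * d⁻¹ * (h * a * h⁻¹) = h * a * h⁻¹ * (d * w * d⁻¹) := by
        have e1 := (hdW _).1 hw'
        have e2 := (hdW _).1 hha
        have := hW0comm _ e1 _ e2
        calc d * w * d⁻¹ * (h * a * h⁻¹)
            = d * ((d⁻¹ * (d * w * d⁻¹) * d) * (d⁻¹ * (h * a * h⁻¹) * d)) * d⁻¹ := by group
          _ = d * ((d⁻¹ * (h * a * h⁻¹) * d) * (d⁻¹ * (d * w * d⁻¹) * d)) * d⁻¹ := by rw [this]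
          _ = _ := by group
      have h2 : d * w * d⁻¹ * b = b * (d * w * d⁻¹) := mem_cent.1 (hW'.1 hw').2
      have h3 : h * b * h⁻¹ = b := mem_cent_iff_conj.1 hh.2
      have h4 : d * w * d⁻¹ * (h * (x : G) * h⁻¹) = h * (x : G) * h⁻¹ * (d * w * d⁻¹) := by
        have : h * (x : G) * h⁻¹ = h * a * h⁻¹ * b := by
          rw [he]
          calc h * (a * b) * h⁻¹ = h * a * h⁻¹ * (h * b * h⁻¹) := by group
            _ = _ := by rw [h3]
        rw [this, ← mul_assoc, h1, mul_assoc, h2, ← mul_assoc]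
      simp only [Subgroup.coe_mul, Subgroup.coe_inv]
      calc w * (d⁻¹ * h * (x : G) * (d⁻¹ * h)⁻¹)
          = d⁻¹ * (d * w * d⁻¹ * (h * (x : G) * h⁻¹)) * d := by group
        _ = d⁻¹ * (h * (x : G) * h⁻¹ * (d * w * d⁻¹)) * d := by rw [h4]
        _ = d⁻¹ * h * (x : G) * (d⁻¹ * h)⁻¹ * w := by group
    intro x hx w hw
    have h : (⟨x, hx⟩ : D) ∈ (centralizer (W0 : Set G)).subgroupOf D := htop ▸ mem_top _
    exact (mem_centralizer_iff.1 (mem_subgroupOf.1 h) w hw).symm
  have hqc : ∀ v ∈ D, IsPEl q v → D ≤ C v := by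
    intro v hv hvq x hx
    obtain ⟨h, hh, hhv⟩ := hW0D.conj_mem hv hvq
    have : h * v * h⁻¹ = v := by
      have h1 : h * (h * v * h⁻¹) = h * v * h⁻¹ * h := hDW h hh _ hhv
      calc h * v * h⁻¹ = h⁻¹ * (h * (h * v * h⁻¹)) := by group
        _ = h⁻¹ * (h * v * h⁻¹ * h) := by rw [h1]
        _ = v := by group
    rw [this] at hhv
    exact mem_cent.2 (hDW x hx v hhv)
  -- two class sizes in `D`
  have hm := S.hm
  have hrel : ∀ x ∈ D, (orderOf x).Coprime q → ((C x).relIndex D = 1 ∨ (C x).relIndex D = n) := by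
    intro x hx hxq
    have h1 : (D ⊓ C x).index = (C x).relIndex D * m := by
      rw [← hum, inf_comm]
      show (C x ⊓ D).index = (C x).relIndex D * D.index
      rw [← inf_relIndex_right, relIndex_mul_index inf_le_right]
    rw [hinf x hx hxq] at h1
    rcases S.idx_or (hux x hx hxq) with e | e <;> rw [show (C (u * x)).index = idx (u * x) from rfl, e] at h1
    · left
      exact Nat.eq_of_mul_eq_mul_right (by omega : 0 < m) (by rw [one_mul]; exact h1.symm)
    · right
      exact Nat.eq_of_mul_eq_mul_left (by omega : 0 < m) (by rw [h1, mul_comm])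
  have hsizes : ∀ x : D, idx x = 1 ∨ idx x = n := by
    intro x
    obtain ⟨a, b, he, hcomm, ha, hb, haz, hbz⟩ := ClassSize.exists_pParts (p := q) (x : G)
    have haD : a ∈ D := zpowers_le.2 x.2 haz
    have hbD : b ∈ D := zpowers_le.2 x.2 hbz
    have e : C (x : G) ⊓ D = C b ⊓ D := by
      ext y
      simp only [mem_inf]
      refine ⟨fun ⟨h1, h2⟩ => ⟨C_le_of_mem_zpowers hbz h1, h2⟩, fun ⟨h1, h2⟩ => ⟨?_, h2⟩⟩
      rw [mem_cent, he, ← mul_assoc, mem_cent.1 (hqc a haD ha h2), mul_assoc, mem_cent.1 h1,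
        mul_assoc]
    rw [idx_subgroup, ← inf_relIndex_right, e, inf_relIndex_right]
    exact hrel b hbD hb
  have hnc : ∀ (x : D), x ∉ center D ↔ ¬ D ≤ C (x : G) := by
    intro x
    rw [not_iff_not, mem_center_iff]
    exact ⟨fun h y hy => mem_cent.2 (congrArg Subtype.val (h ⟨y, hy⟩)),
      fun h y => Subtype.ext (mem_cent.1 (h y.2))⟩
  have hgmem : g ∈ D := hgD (mem_cent.2 rfl)
  obtain ⟨r, hr, a, -, har, hac⟩ := exists_part (H := center D) (x := (⟨g, hgmem⟩ : D)) (by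
    rw [hnc]
    intro hle
    have h1 : C g = D := le_antisymm hgD hle
    have h2 : idx g = idx u := congrArg Subgroup.index h1
    rw [hg, hum] at h2
    exact S.m_ne h2.symm)
  have haG : IsPEl r (a : G) := by
    obtain ⟨k, hk⟩ := har
    exact ⟨k, by rwa [Subgroup.orderOf_coe]⟩
  have hother : ∀ s : ℕ, s.Prime → s ≠ r → ∀ x ∈ D, IsPEl s x → D ≤ C x := by
    intro s hs hsr x hx hxs
    by_contra hle
    obtain ⟨k, hk⟩ := hxs
    exact ClassSizeIto.unique_prime S.hn hsizes hs hr hsr ((hnc ⟨x, hx⟩).2 hle) hac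
      ⟨k, by rwa [Subgroup.orderOf_mk]⟩ har
  have hrq : r ≠ q := fun e => (hnc a).1 hac (hqc a a.2 (e ▸ haG))
  -- `n` is a power of `r`
  have honly : ∀ s : ℕ, s.Prime → s ∣ n → s = r := by
    intro s hs hsn
    by_contra hsr
    haveI := Fact.mk hs
    obtain ⟨W, hW⟩ := exists_full s D
    have hWg : W ≤ C g := fun w hw =>
      mem_C_comm.1 (hother s hs hsr w (hW.1 hw) (pel_of_mem_pgroup hW.2.1 hw) hgmem)
    have h1 : vp s D ≤ vp s (C g) := le_vp_of_pgroup hWg hW.2.2
    have h2 := vp_add_idx s u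
    have h3 := vp_add_idx s g
    rw [hum, Nat.factorization_eq_zero_of_not_dvd (fun h => hs.not_dvd_one (S.cop ▸ Nat.dvd_gcd h hsn))] at h2
    rw [hg] at h3
    have h4 := hs.factorization_pos_of_dvd (by have := S.hn; positivity) (hsn.mul_left m)
    rw [← hD] at h2
    omega
  have hrn : r ∣ n := by
    obtain ⟨s, hs, hsn⟩ := Nat.exists_prime_and_dvd S.hn.ne'
    exact honly s hs hsn ▸ hsn
  haveI := Fact.mk hr
  -- every centraliser contains a noncentral `r`-element
  have haq : (orderOf (a : G)).Coprime q := haG.coprime_prime hr hq hrq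
  have hac' : (a : G) ∉ center G := fun h => (hnc a).1 hac fun y _ =>
    mem_cent.2 (mem_center_iff.1 h y)
  have hrlt : ∀ v : G, v ∉ center G → vz G r < vp r (C v) := by
    intro v hv
    have h0 : vz G r < vp r (C (u * a)) := by
      rw [← hinf a a.2 haq]
      exact vz_lt_of_mem (le_inf (center_le_C u) (center_le_C (a : G)))
        (mem_inf.2 ⟨a.2, mem_cent.2 rfl⟩) haG hac'
    have h1 := vp_add_idx r v
    have h2 := vp_add_idx r (u * a)
    have hua : idx (u * a) = m * n := (S.idx_or (hux a a.2 haq)).resolve_left fun e => by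
      apply (hnc a).1 hac
      rw [← inf_eq_left, hinf a a.2 haq]
      exact eq_of_le_of_index_le (hinf a a.2 haq ▸ inf_le_left)
        (le_of_eq (e.trans hum.symm))
    rw [hua] at h2
    have h3 : (idx v).factorization r ≤ (m * n).factorization r := by
      rcases S.idx_or hv with e | e <;> rw [e]
      rw [Nat.factorization_mul (by omega) (by have := S.hn; omega), Finsupp.add_apply]
      omega
    omega
  have hclass : ∀ q₂ : ℕ, q₂.Prime → q₂ ∣ m → ∀ v : G, IsPEl q₂ v → v ∉ center G →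
      ∃ k : G, C (k * v * k⁻¹) = D := by
    intro q₂ hq₂ hq₂m v hv hvc
    haveI := Fact.mk hq₂
    obtain ⟨b, hb, hbr, hbc⟩ := exists_noncentral_pel (p := r) (H := C v) (hrlt v hvc)
    obtain ⟨k, hk⟩ := S.conj_mem_M hr hrn hum hbr
    have hq₂r : q₂ ≠ r := fun e => hr.not_dvd_one (S.cop ▸ Nat.dvd_gcd (e ▸ hq₂m) hrn)
    obtain ⟨W, hW⟩ := exists_full q₂ D
    have hWc : ∀ w ∈ W, D ≤ C w := fun w hw =>
      hother q₂ hq₂ hq₂r w (hW.1 hw) (pel_of_mem_pgroup hW.2.1 hw)
    have hWb : IsFull q₂ (C (k * b * k⁻¹)) W :=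
      hW.of_le (fun w hw => mem_C_comm.1 (hWc w hw hk))
        (S.vq_eq hq₂ hq₂m (not_central_conj hbc k) huc)
    obtain ⟨h, -, hh⟩ := hWb.conj_mem (mem_C_comm.1 (conj_mem_C hb k)) (hv.conj k)
    refine ⟨h * k, ?_⟩
    rw [show h * k * v * (h * k)⁻¹ = h * (k * v * k⁻¹) * h⁻¹ by group]
    exact ((S.M_eq_of_le hum (not_central_conj (not_central_conj hvc k) h) (hWc _ hh)).2).symm
  -- so `D` meets every class
  have htop : D = ⊤ := by
    refine ClassSize.eq_top_of_forall_exists_conj_mem D fun x => ?_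
    by_cases hcase : ∃ q₂ : ℕ, q₂.Prime ∧ q₂ ∣ m ∧ ∃ v ∈ zpowers x, IsPEl q₂ v ∧ v ∉ center G
    · obtain ⟨q₂, h1, h2, v, hvx, hv, hvc⟩ := hcase
      obtain ⟨k, hk⟩ := hclass q₂ h1 h2 v hv hvc
      exact ⟨k, hk ▸ conj_mem_C (C_le_of_mem_zpowers hvx (mem_cent.2 rfl)) k⟩
    · push Not at hcase
      obtain ⟨x1, x2, he, -, hx1, hx2, -, hz2⟩ := ClassSize.exists_pParts (p := r) x
      have hx2c : x2 ∈ center G := by
        refine mem_of_parts _ x2 fun s hs c hc hcs => ?_
        by_contra hcc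
        rcases S.dvd_of_dvd_card hs (by
          obtain ⟨k, hk⟩ := hcs
          have h1 : k ≠ 0 := fun h0 => hcc (by
            rw [h0, pow_zero, orderOf_eq_one_iff] at hk; rw [hk]; exact one_mem _)
          exact (dvd_pow_self s h1).trans (hk ▸ orderOf_dvd_natCard c)) with h | h
        · exact hcc (hcase s hs h c (zpowers_le.2 hz2 hc) hcs)
        · obtain ⟨k, hk⟩ := hcs
          have h2 : orderOf c ∣ orderOf x2 := orderOf_dvd_of_mem_zpowers hc
          rw [hk, honly s hs h] at h2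
          rcases Nat.eq_zero_or_pos k with h0 | h0
          · rw [h0, pow_zero, orderOf_eq_one_iff] at hk; rw [hk] at hcc; exact hcc (one_mem _)
          · exact (Nat.Prime.coprime_iff_not_dvd hr).1 hx2.symm ((dvd_pow_self r h0.ne').trans h2)
      obtain ⟨k, hk⟩ := S.conj_mem_M hr hrn hum hx1
      refine ⟨k, ?_⟩
      rw [he, show k * (x1 * x2) * k⁻¹ = k * x1 * k⁻¹ * (k * x2 * k⁻¹) by group]
      exact D.mul_mem hk (center_le_C u (Subgroup.Normal.conj_mem inferInstance _ hx2c k))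
  have : idx u = 1 := by
    show D.index = 1
    rw [htop, index_top]
  omega

theorem N_qel {q : ℕ} (hq : q.Prime) (hqm : q ∣ m) {g : G} (hg : idx g = m * n)
    (hgq : (orderOf g).Coprime q) {u : G} (hu : u ∈ C g) (huq : IsPEl q u) (huc : u ∉ center G) :
    idx u = m * n ∧ C g = C u := by
  have h1 : idx u = m * n := (S.idx_or huc).resolve_left fun h => S.no_mixed hq hqm hg hgq hu huq h
  exact ⟨h1, S.eq_of_N hg (S.N_central hg hu (huq.coprime_of hgq).symm) h1⟩

/-- such centralisers are abelian -/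
theorem N_comm {q : ℕ} (hq : q.Prime) (hqm : q ∣ m) {g : G} (hg : idx g = m * n)
    (hgq : (orderOf g).Coprime q) : ∀ a ∈ C g, ∀ b ∈ C g, a * b = b * a := by
  haveI := Fact.mk hq
  obtain ⟨u, hu, huq, huc⟩ := S.exists_qel hq hqm (S.noncentral (Or.inr hg))
  obtain ⟨huN, hgu⟩ := S.N_qel hq hqm hg hgq hu huq huc
  intro a ha b hb
  obtain ⟨b1, b2, rfl, -, hb1, hb2, hz1, hz2⟩ := ClassSize.exists_pParts (p := q) b
  have e1 : C g ≤ C b1 := S.N_central hg (zpowers_le.2 hb hz1) ((show IsPEl q b1 from hb1).coprime_of hgq).symm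
  have e2 : C g ≤ C b2 := hgu.le.trans
    (S.N_central huN (hgu ▸ zpowers_le.2 hb hz2) (huq.coprime_of hb2))
  rw [← mul_assoc, mem_cent.1 (e1 ha), mul_assoc, mem_cent.1 (e2 ha), mul_assoc]

/-- primary elements for the primes of `m` in such centralisers have the same centraliser -/
theorem N_primary {q : ℕ} (hq : q.Prime) (hqm : q ∣ m) {g : G} (hg : idx g = m * n)
    (hgq : (orderOf g).Coprime q) {s : ℕ} (hs : s.Prime) (hsm : s ∣ m) {v : G} (hv : v ∈ C g)
    (hvs : IsPEl s v) (hvc : v ∉ center G) : idx v = m * n ∧ C v = C g := by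
  by_cases hsq : s = q
  · subst hsq
    obtain ⟨h1, h2⟩ := S.N_qel hs hsm hg hgq hv hvs hvc
    exact ⟨h1, h2.symm⟩
  obtain ⟨u, hu, huq, huc⟩ := S.exists_qel hq hqm (S.noncentral (Or.inr hg))
  obtain ⟨huN, hgu⟩ := S.N_qel hq hqm hg hgq hu huq huc
  obtain ⟨h1, h2⟩ := S.N_qel hs hsm huN (huq.coprime_prime hq hs (Ne.symm hsq)) (hgu ▸ hv) hvs hvc
  exact ⟨h1, h2.symm.trans hgu.symm⟩

end Sizes

end Cfsg.Agent.Lib.ClassSizeMMN
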