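import Cfsg.Agent.Lib.ClassSizeMMN.TwoN

/-!
Class sizes `{1, m, m * n}`: elements of order prime to a prime divisor of `m` have class size at
most `m`, and `m` is a prime power.
-/

set_option autoImplicit false
set_option linter.style.haveILetI false

namespace Cfsg.Agent.Lib.ClassSizeMMN

open Subgroup Cfsg.Agent.Lib.ClassSizeTop

variable {G : Type*} [Group G] [Finite G]

namespace Sizes

variable {m n : ℕ} (S : Sizes G m n)
include S

/-- two elements of type `m` for different primes with the same centraliser `D`, such that no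
product with a primary element of `D` has type `m * n`: then `D` is abelian -/
theorem comm_of_two {D : Subgroup G} {p₁ p₂ : ℕ} (hp₁ : p₁.Prime) (hp₂ : p₂.Prime)
    (hp : p₁ ≠ p₂) {u v : G} (hu : IsPEl p₁ u) (hv : IsPEl p₂ v) (huD : C u = D) (hvD : C v = D)
    (hum : idx u = m) (hvm : idx v = m)
    (hno : ∀ p : ℕ, p.Prime → ∀ x ∈ D, IsPEl p x → x ∉ center G →
      (p ≠ p₁ → idx (u * x) ≠ m * n) ∧ (p = p₁ → idx (v * x) ≠ m * n)) :
    ∀ a ∈ D, ∀ b ∈ D, a * b = b * a := by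
  intro a ha b hb
  have hb' : b ∈ centralizer (D : Set G) := by
    refine mem_of_parts _ b fun p hp' x hx hxp => mem_centralizer_iff.2 fun y hy => ?_
    by_cases hxc : x ∈ center G
    · exact mem_center_iff.1 hxc y
    have hxD : x ∈ D := zpowers_le.2 hb hx
    have main : ∀ (p₀ : ℕ) (w : G), p₀.Prime → IsPEl p₀ w → C w = D → idx w = m → p₀ ≠ p →
        idx (w * x) ≠ m * n → y * x = x * y := by
      intro p₀ w hp₀ hw hwD hwm hne hN
      have hxw : x ∈ C w := hwD ▸ hxD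
      have hco := IsPEl.coprime hp₀ hp' hne hw hxp
      have hC := cent_mul_of_coprime (show Commute w x from (mem_cent.1 hxw).symm) hco
      have hnc : w * x ∉ center G := fun hc => S.noncentral (Or.inl hwm) (mem_center_iff.2 fun g =>
        mem_cent.1 ((hC.trans_le inf_le_left) (mem_cent.2 (mem_center_iff.1 hc g))))
      have h2 := S.M_central hwm hxw hco ((S.idx_or hnc).resolve_right hN)
      exact mem_cent.1 (h2 (hwD.symm ▸ hy))
    by_cases hpp : p = p₁
    · exact main p₂ v hp₂ hv hvD hvm (fun e => hp (hpp.symm.trans e.symm))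
        ((hno p hp' x hxD hxp hxc).2 hpp)
    · exact main p₁ u hp₁ hu huD hum (Ne.symm hpp) ((hno p hp' x hxD hxp hxc).1 hpp)
  exact mem_centralizer_iff.1 hb' a ha

theorem two_primes_case_A {q s : ℕ} (hq : q.Prime) (hs : s.Prime) (hqm : q ∣ m) (hsm : s ∣ m)
    (hqs : q ≠ s)
    (hab : ∀ p, (p = q ∨ p = s) → ∀ x : G, IsPEl p x → x ∉ center G →
      ∀ a ∈ C x, ∀ b ∈ C x, a * b = b * a) : False := by
  haveI := Fact.mk hq
  haveI := Fact.mk hs
  obtain ⟨x₀, hx₀⟩ := S.exM
  have hx₀c := S.noncentral (Or.inl hx₀)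
  obtain ⟨u, -, hu, huc⟩ := S.exists_qel hq hqm hx₀c
  refine false_of_abCent (G := G) (ep := vp q (C x₀)) (es := vp s (C x₀)) hqs
    (S.vz_lt hq hqm hx₀c) (S.vz_lt hs hsm hx₀c)
    (fun x hx hxc => ⟨hab q (Or.inl rfl) x hx hxc, S.vq_eq hq hqm hxc hx₀c,
      S.vq_eq hs hsm hxc hx₀c⟩)
    (fun x hx hxc => ⟨hab s (Or.inr rfl) x hx hxc, S.vq_eq hs hsm hxc hx₀c,
      S.vq_eq hq hqm hxc hx₀c⟩) ⟨u, hu, huc⟩ fun g hg => S.exists_qel hq hqm hg

/-- all noncentral elements of prime power order for the primes of `m` of type `m * n` -/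
theorem case_allN {q : ℕ} (hq : q.Prime) (hqm : q ∣ m) {g : G} (hg : idx g = m * n)
    (hgq : (orderOf g).Coprime q)
    (hall : ∀ s : ℕ, s.Prime → s ∣ m → ∀ z : G, IsPEl s z → z ∉ center G → idx z = m * n) :
    False := by
  haveI := Fact.mk hq
  by_cases hone : ∀ s : ℕ, s.Prime → s ∣ m → s = q
  swap
  · push Not at hone
    obtain ⟨s, hs, hsm, hsq⟩ := hone
    refine S.two_primes_case_A hq hs hqm hsm (Ne.symm hsq) ?_
    rintro p (rfl | rfl) x hx hxc
    · exact S.N_comm hs hsm (hall p hq hqm x hx hxc) (hx.coprime_prime hq hs (Ne.symm hsq))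
    · exact S.N_comm hq hqm (hall p hs hsm x hx hxc) (hx.coprime_prime hs hq hsq)
  have hnq : ∀ r : ℕ, r ∣ n → r ≠ q := fun r hrn e =>
    hq.not_dvd_one (S.cop ▸ Nat.dvd_gcd hqm (e ▸ hrn))
  have hM : ∀ r : ℕ, r.Prime → r ∣ n → ∃ a : G, IsPEl r a ∧ idx a = m := by
    intro r hr hrn
    haveI := Fact.mk hr
    by_contra hno
    push Not at hno
    have hN : ∀ a : G, IsPEl r a → a ∉ center G → idx a = m * n := fun a ha hac =>
      (S.idx_or hac).resolve_left (hno a ha)
    obtain ⟨a, ha, hac⟩ := S.exists_noncentral_n hr hrn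
    have hes : vz G r < vp r (C a) := vz_lt_C ha hac
    have hqr : ∀ z : G, IsPEl q z → z ∉ center G → ∀ b ∈ C z, ∀ c ∈ C z, b * c = c * b := by
      intro z hz hzc
      have hzi := hall q hq hqm z hz hzc
      obtain ⟨v, hv, hvr, hvc⟩ := exists_noncentral_pel (p := r) (H := C z)
        (by rw [S.vp_eq_of_idx (hzi.trans (hN a ha hac).symm) r]; exact hes)
      have hvo := hvr.coprime_prime hr hq (hnq r hrn)
      rw [(S.N_primary hq hqm (hN v hvr hvc) hvo hq hqm (mem_C_comm.1 hv) hz hzc).2]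
      exact S.N_comm hq hqm (hN v hvr hvc) hvo
    obtain ⟨u, -, hu, huc⟩ := S.exists_qel hq hqm hac
    refine false_of_abCent (G := G) (ep := vp q (C a)) (es := vp r (C a)) (hnq r hrn).symm
      (S.vz_lt hq hqm hac) hes
      (fun x hx hxc => ⟨hqr x hx hxc, S.vq_eq hq hqm hxc hac,
        S.vp_eq_of_idx ((hall q hq hqm x hx hxc).trans (hN a ha hac).symm) r⟩)
      (fun x hx hxc => ⟨S.N_comm hq hqm (hN x hx hxc) (hx.coprime_prime hr hq (hnq r hrn)),
        S.vp_eq_of_idx ((hN x hx hxc).trans (hN a ha hac).symm) r, S.vq_eq hq hqm hxc hac⟩)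
      ⟨u, hu, huc⟩ fun y hy => S.exists_qel hq hqm hy
  obtain ⟨t, ht, htn⟩ := Nat.exists_prime_and_dvd S.hn.ne'
  by_cases honen : ∀ r : ℕ, r.Prime → r ∣ n → r = t
  · refine S.no_two_primes hq ht hqm htn (fun r hr h => ?_) (hall q hq hqm) hg ?_
    · rcases S.dvd_of_dvd_card hr h with h' | h'
      · exact Or.inl (hone r hr h')
      · exact Or.inr (honen r hr h')
    · refine ⟨_, Nat.eq_prime_pow_of_unique_prime_dvd (orderOf_pos g).ne' fun {r} hr h => ?_⟩
      rcases S.dvd_of_dvd_card hr (h.trans (orderOf_dvd_natCard g)) with h' | h'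
      · exact absurd (hone r hr h' ▸ h) ((Nat.Prime.coprime_iff_not_dvd hq).1 hgq.symm)
      · exact honen r hr h'
  · push Not at honen
    obtain ⟨s, hs, hsn, hst⟩ := honen
    obtain ⟨w, hw, hwm⟩ := hM t ht htn
    obtain ⟨x, hx, hxm⟩ := hM s hs hsn
    obtain ⟨z, hz, hzq, hzc⟩ := S.exists_qel hq hqm (S.noncentral (Or.inl hwm))
    refine S.no_two_n hq hqm ht hs htn hsn (Ne.symm hst) hw hwm hx hxm hz hzq fun hle => ?_
    exact S.m_ne ((S.M_eq_of_le hwm hzc hle).1.symm.trans (hall q hq hqm z hzq hzc))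

/-- some such element of type `m` -/
theorem case_someM {q : ℕ} (hq : q.Prime) (hqm : q ∣ m) {g : G} (hg : idx g = m * n)
    (hgq : (orderOf g).Coprime q) {q₀ : ℕ} (hq₀ : q₀.Prime) (hq₀m : q₀ ∣ m) {z₀ : G}
    (hz₀ : IsPEl q₀ z₀) (hz₀m : idx z₀ = m) : False := by
  haveI := Fact.mk hq
  haveI := Fact.mk hq₀
  have hnq : ∀ r p : ℕ, r.Prime → r ∣ n → p ∣ m → r ≠ p := fun r p hr hrn hpm e =>
    hr.not_dvd_one (S.cop ▸ Nat.dvd_gcd (e ▸ hpm) hrn)
  have hB : ∀ y ∈ C z₀, (orderOf y).Coprime q₀ → idx y ≠ m * n := fun y hy hyo hyN =>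
    S.no_mixed hq₀ hq₀m hyN hyo (mem_C_comm.1 hy) hz₀ hz₀m
  have hnM : ∀ r : ℕ, r.Prime → r ∣ n → ∀ a : G, IsPEl r a → a ∉ center G → idx a = m := by
    intro r hr hrn a ha hac
    refine (S.idx_or hac).resolve_right fun hN => ?_
    obtain ⟨k, hk⟩ := S.conj_mem_M hr hrn hz₀m ha
    exact hB _ hk ((ha.conj k).coprime_prime hr hq₀ (hnq r q₀ hr hrn hq₀m))
      ((idx_conj k a).trans hN)
  have hgc := S.noncentral (Or.inr hg)
  by_cases hone : ∀ s : ℕ, s.Prime → s ∣ m → s = q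
  · -- two primes of `n` in `g`
    have hparts : ∀ p : ℕ, p.Prime → ∀ a ∈ zpowers g, IsPEl p a → a ∉ center G → p ∣ n := by
      intro p hp a ha hap hac
      refine (S.dvd_of_dvd_card hp (dvd_card_of_pel hap hac)).resolve_left fun h => ?_
      exact (Nat.Prime.coprime_iff_not_dvd hq).1 hgq.symm
        (hone p hp h ▸ dvd_orderOf_of_part hap ha fun e => hac (e ▸ one_mem _))
    obtain ⟨t, ht, w, hwg, hwt, hwc⟩ := exists_part hgc
    have htn := hparts t ht w hwg hwt hwc
    haveI := Fact.mk ht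
    obtain ⟨a, b, he, hcomm, ha, hb, haz, hbz⟩ := ClassSize.exists_pParts (p := t) g
    obtain ⟨s, hs, x, hxb, hxs, hxc⟩ := exists_part (H := center G) (x := b) fun hbc => by
      have h1 : idx g = idx a := by
        rw [he, hcomm.eq]; exact idx_mul_central hbc
      have hac : a ∉ center G := fun hac => hgc (he ▸ mul_mem hac hbc)
      rw [hg, hnM t ht htn a ha hac] at h1
      exact S.m_ne h1.symm
    have hxg : x ∈ zpowers g := zpowers_le.2 hbz hxb
    have hsn := hparts s hs x hxg hxs hxc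
    have hts : t ≠ s := fun e => (Nat.Prime.coprime_iff_not_dvd ht).1 hb.symm
      (e ▸ dvd_orderOf_of_part hxs hxb fun e => hxc (e ▸ one_mem _))
    have hwm := hnM t ht htn w hwt hwc
    obtain ⟨u, hu, huq, huc⟩ := S.exists_qel hq hqm hgc
    refine S.no_two_n hq hqm ht hs htn hsn hts hwt hwm hxs (hnM s hs hsn x hxs hxc)
      (C_le_of_mem_zpowers hwg hu) huq fun hle => ?_
    exact S.m_ne ((S.M_eq_of_le hwm huc hle).1.symm.trans
      (S.N_qel hq hqm hg hgq hu huq huc).1)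
  push Not at hone
  obtain ⟨s, hs, hsm, hsq⟩ := hone
  haveI := Fact.mk hs
  have habg := S.N_comm hq hqm hg hgq
  -- `C g` has no noncentral elements for the primes of `n`
  have hAr : ∀ r : ℕ, r.Prime → r ∣ n → ∀ a ∈ C g, IsPEl r a → a ∈ center G := by
    intro r hr hrn a ha har
    by_contra hac
    have hgle : C g ≤ C a := le_C_of_comm habg ha
    obtain ⟨k, hk⟩ := S.conj_mem_M hr hrn hz₀m har
    have hz1 : k⁻¹ * z₀ * k ∈ C a := by
      have := conj_mem_C (mem_C_comm.1 hk) k⁻¹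
      simpa [mul_assoc] using this
    obtain ⟨W0, hW0⟩ := exists_full q₀ (C g)
    obtain ⟨h, -, hh⟩ := (hW0.of_le (hW0.1.trans hgle) (S.vq_eq hq₀ hq₀m hac hgc)).conj_mem hz1
      (by simpa using hz₀.conj k⁻¹)
    have hz0c := S.noncentral (Or.inl hz₀m)
    have hnc : h * (k⁻¹ * z₀ * k) * h⁻¹ ∉ center G :=
      not_central_conj (by simpa using not_central_conj hz0c k⁻¹) h
    have h1 := (S.N_primary hq hqm hg hgq hq₀ hq₀m (hW0.1 hh)
      (by simpa using (hz₀.conj k⁻¹).conj h) hnc).1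
    rw [idx_conj] at h1
    have h2 : idx (k⁻¹ * z₀ * k) = idx z₀ := by simpa using idx_conj k⁻¹ z₀
    exact S.m_ne (hz₀m.symm.trans (h2.symm.trans h1))
  have hnoN : ∀ (r : ℕ) (y x : G), r.Prime → r ∣ n → IsPEl r y → y ∉ center G → y ∈ C x →
      idx x ≠ m * n := by
    intro r y x hr hrn hy hyc hyx hxN
    haveI := Fact.mk hr
    have h1 : vz G r < vp r (C x) := vz_lt_of_mem (center_le_C x) hyx hy hyc
    rw [S.vp_eq_of_idx (hxN.trans hg.symm) r] at h1
    obtain ⟨a, ha, har, hac⟩ := exists_noncentral_pel h1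
    exact hac (hAr r hr hrn a ha har)
  have habM : ∀ p : ℕ, p.Prime → p ∣ m → ∀ z : G, IsPEl p z → idx z = m →
      ∀ a ∈ C z, ∀ b ∈ C z, a * b = b * a := by
    intro p hp hpm z hz hzm
    obtain ⟨r, hr, hrn⟩ := Nat.exists_prime_and_dvd S.hn.ne'
    haveI := Fact.mk hr
    obtain ⟨y', hy', hyc'⟩ := S.exists_noncentral_n hr hrn
    obtain ⟨k, hk⟩ := S.conj_mem_M hr hrn hzm hy'
    set y := k * y' * k⁻¹
    have hy : IsPEl r y := hy'.conj k
    have hyc : y ∉ center G := not_central_conj hyc' k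
    have hpr : p ≠ r := (hnq r p hr hrn hpm).symm
    have hco := IsPEl.coprime hp hr hpr hz hy
    have hC := cent_mul_of_coprime (show Commute z y from (mem_cent.1 hk).symm) hco
    have hzy : idx (z * y) = m := (S.idx_or fun hc => S.noncentral (Or.inl hzm)
      (mem_center_iff.2 fun u => mem_cent.1
        ((hC.trans_le inf_le_left) (mem_cent.2 (mem_center_iff.1 hc u))))).resolve_right
      (hnoN r y _ hr hrn hy hyc (hC.ge (mem_inf.2 ⟨hk, mem_cent.2 rfl⟩)))
    obtain ⟨hym, hCy⟩ := S.M_eq_of_le hzm hyc (S.M_central hzm hk hco hzy)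
    refine S.comm_of_two hr hp hpr.symm hy hz hCy.symm rfl hym hzm fun p' hp' x hx hxp hxc => ?_
    have hyx : Commute y x := (mem_cent.1 (hCy ▸ hx : x ∈ C y)).symm
    refine ⟨fun hne => hnoN r y _ hr hrn hy hyc ?_, fun he => ?_⟩
    · rw [show C (y * x) = _ from cent_mul_of_coprime hyx (IsPEl.coprime hr hp' (Ne.symm hne) hy hxp)]
      exact mem_inf.2 ⟨mem_cent.2 rfl, mem_cent.2 hyx.eq⟩
    · subst he
      have hzx : Commute z x := (mem_cent.1 hx).symm
      refine hnoN p' x _ hr hrn hxp hxc ?_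
      rw [show C (z * x) = _ from cent_mul_of_coprime hzx (IsPEl.coprime hp hr hpr hz hxp)]
      exact mem_inf.2 ⟨mem_cent.2 hzx.eq.symm, mem_cent.2 rfl⟩
  refine S.two_primes_case_A hq hs hqm hsm (Ne.symm hsq) ?_
  rintro p (rfl | rfl) x hx hxc
  · rcases S.idx_or hxc with h | h
    · exact habM p hq hqm x hx h
    · exact S.N_comm hs hsm h (hx.coprime_prime hq hs (Ne.symm hsq))
  · rcases S.idx_or hxc with h | h
    · exact habM p hs hsm x hx h
    · exact S.N_comm hq hqm h (hx.coprime_prime hs hq hsq)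

/-- elements of order prime to a prime of `m` have class size at most `m` -/
theorem idx_ne_mn {q : ℕ} (hq : q.Prime) (hqm : q ∣ m) {g : G}
    (hgq : (orderOf g).Coprime q) : idx g ≠ m * n := by
  intro hg
  by_cases hall : ∀ s : ℕ, s.Prime → s ∣ m → ∀ z : G, IsPEl s z → z ∉ center G → idx z = m * n
  · exact S.case_allN hq hqm hg hgq hall
  · push Not at hall
    obtain ⟨s, hs, hsm, z, hz, hzc, hzi⟩ := hall
    exact S.case_someM hq hqm hg hgq hs hsm hz ((S.idx_or hzc).resolve_right hzi)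

/-- `m` has only one prime divisor -/
theorem unique_m_prime {q s : ℕ} (hq : q.Prime) (hs : s.Prime) (hqm : q ∣ m) (hsm : s ∣ m) :
    q = s := by
  by_contra hqs
  haveI := Fact.mk hq
  obtain ⟨g, hg⟩ := S.exN
  obtain ⟨r, hr, hrn⟩ := Nat.exists_prime_and_dvd S.hn.ne'
  haveI := Fact.mk hr
  have hr' : ∀ p, p ∣ m → r ≠ p := fun p hpm e => hr.not_dvd_one (S.cop ▸ Nat.dvd_gcd (e ▸ hpm) hrn)
  obtain ⟨y, hy, hyc⟩ := S.exists_noncentral_n hr hrn
  have hym : idx y = m := (S.idx_or hyc).resolve_right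
    (S.idx_ne_mn hq hqm (hy.coprime_prime hr hq (hr' q hqm)))
  set D := C y
  obtain ⟨z, hz, hzq, hzc⟩ := S.exists_qel hq hqm hyc
  have hzm : idx z = m := (S.idx_or hzc).resolve_right
    (S.idx_ne_mn hs hsm (hzq.coprime_prime hq hs hqs))
  have hyz : Commute y z := (mem_cent.1 hz).symm
  have hco := IsPEl.coprime hr hq (hr' q hqm) hy hzq
  have hCyz := cent_mul_of_coprime hyz hco
  have hyzm : idx (y * z) = m := (S.idx_or fun hc => hyc (mem_center_iff.2 fun u => mem_cent.1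
      ((hCyz.trans_le inf_le_left) (mem_cent.2 (mem_center_iff.1 hc u))))).resolve_right
    (S.idx_ne_mn hs hsm (pow_order_coprime hyz (hy.coprime_prime hr hs (hr' s hsm))
      (hzq.coprime_prime hq hs hqs)))
  obtain ⟨-, hCz⟩ := S.M_eq_of_le hym hzc (S.M_central hym hz hco hyzm)
  have hDc : ∀ a ∈ D, ∀ b ∈ D, a * b = b * a := by
    refine S.comm_of_two hr hq (hr' q hqm) hy hzq rfl hCz.symm hym hzm
      fun p hp x hx hxp hxc => ⟨fun hne => ?_, fun he => ?_⟩
    · by_cases hpq : p = q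
      · exact S.idx_ne_mn hs hsm (pow_order_coprime (mem_cent.1 hx).symm
          (hy.coprime_prime hr hs (hr' s hsm)) (hxp.coprime_prime hp hs (hpq ▸ hqs)))
      · exact S.idx_ne_mn hq hqm (pow_order_coprime (mem_cent.1 hx).symm
          (hy.coprime_prime hr hq (hr' q hqm)) (hxp.coprime_prime hp hq hpq))
    · exact S.idx_ne_mn hs hsm (pow_order_coprime
        (show Commute z x from (mem_cent.1 (hCz ▸ hx : x ∈ C z)).symm)
        (hzq.coprime_prime hq hs hqs) (hxp.coprime_prime hp hs (he ▸ hr' s hsm)))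
  -- the part of `g` of order prime to `q`
  obtain ⟨a, b, he, hcomm, ha, hb, haz, hbz⟩ := ClassSize.exists_pParts (p := q) g
  have hbc : b ∉ center G := fun hbc => by
    have h1 : idx g = idx a := by rw [he, hcomm.eq]; exact idx_mul_central hbc
    rw [hg] at h1
    exact S.idx_ne_mn hs hsm ((show IsPEl q a from ha).coprime_prime hq hs hqs) h1.symm
  have hbm : idx b = m := (S.idx_or hbc).resolve_right (S.idx_ne_mn hq hqm hb)
  obtain ⟨k, hk⟩ := S.conj_mem_M hr hrn hbm hy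
  have hky : idx (k * y * k⁻¹) = m := (idx_conj k y).trans hym
  have hab := comm_conj hDc k
  have hbC : C b = C (k * y * k⁻¹) := by
    refine (eq_of_le_of_index_le (le_C_of_comm hab (mem_C_comm.1 hk)) ?_).symm
    exact le_of_eq (hky.trans hbm.symm)
  have hgb : g ∈ C b := C_le_of_mem_zpowers hbz (mem_cent.2 rfl)
  have h2 : idx g ∣ idx b := index_dvd_of_le (le_C_of_comm (hbC ▸ hab) hgb)
  rw [hg, hbm] at h2
  exact absurd (Nat.le_of_dvd (zero_lt_one.trans S.hm) h2) (not_le.2 S.m_lt)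

end Sizes

end Cfsg.Agent.Lib.ClassSizeMMN
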