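import Cfsg.Agent.Lib.ClassSizeMMN.NoN
import Cfsg.Agent.Lib.PrimePowerClass.PElement
import Cfsg.Agent.Lib.Coprime.Basic

/-!
Class sizes `{1, m, m * n}`: the elements of order prime to `m` form an abelian normal subgroup.
-/

set_option autoImplicit false
set_option linter.style.haveILetI false

namespace Cfsg.Agent.Lib.ClassSizeMMN

open Subgroup Cfsg.Agent.Lib.ClassSizeTop

universe u

variable {G : Type u} [Group G] [Finite G]

namespace Sizes

variable {m n : ℕ} (S : Sizes G m n)
include S

theorem centralizes_pCore {q : ℕ} (hq : q.Prime) (hqm : q ∣ m) {r : ℕ} (hr : r.Prime)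
    (hrq : r ≠ q) {y : G} (hy : IsPEl r y) :
    y ∈ centralizer (Cfsg.pCore q G : Set G) := by
  haveI := Fact.mk hq
  by_cases hyc : y ∈ center G
  · exact mem_centralizer_iff.2 fun x _ => mem_center_iff.1 hyc x
  obtain ⟨z, hz, hzq, hzc⟩ := S.exists_qel hq hqm hyc
  have hyz : Commute y z := (mem_cent.1 hz).symm
  have hco := IsPEl.coprime hr hq hrq hy hzq
  have hC : C (y * z) = C y ⊓ C z := cent_mul_of_coprime hyz hco
  have hnc : y * z ∉ center G := fun hc => hyc (mem_center_iff.2 fun u => mem_cent.1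
    ((hC.trans_le inf_le_left) (mem_cent.2 (mem_center_iff.1 hc u))))
  obtain ⟨W', hW'⟩ := exists_full q (C y ⊓ C z)
  have hve : vp q (C z) = vp q (C y ⊓ C z) := by rw [← hC]; exact S.vq_eq hq hqm hzc hnc
  obtain ⟨h, hh, hhz⟩ := hW'.conj_mem (mem_inf.2 ⟨hz, mem_cent.2 rfl⟩) hzq
  rw [mem_cent_iff_conj.1 hh.2] at hhz
  obtain ⟨i, hi⟩ := hy
  have hW'y : W' ≤ centralizer (zpowers y : Set G) := by
    intro w hw
    rw [mem_centralizer_iff]
    rintro _ ⟨j, rfl⟩
    exact ((Commute.zpow_right (mem_cent.1 (hW'.1 hw).1) j).eq).symm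
  have h2 := Coprime.thompson_PxQ (p := q) (P := W') (Q := zpowers y) (U := Cfsg.pCore q G)
    hW'.2.1 (by rw [Nat.card_zpowers, hi]; exact ((Nat.coprime_primes hr hq).2 hrq).pow_left i)
    PSolvable.pCore_isPGroup hW'y (by rw [Subgroup.normalizer_eq_top]; exact le_top)
    (by rw [Subgroup.normalizer_eq_top]; exact le_top) ?_
  · exact h2 (mem_zpowers y)
  rintro x ⟨hx, hxW⟩
  have hxz : x ∈ C z := mem_cent.2 (mem_centralizer_iff.1 hxW z hhz).symm
  have hnm : W' ≤ normalizer (zpowers x : Set G) := by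
    intro w hw
    rw [mem_normalizer_iff]
    have hwx : w * x = x * w := mem_centralizer_iff.1 hxW w hw
    intro u
    constructor
    · rintro ⟨j, rfl⟩
      exact ⟨j, by
        show x ^ j = w * x ^ j * w⁻¹
        rw [(Commute.zpow_right hwx j).eq, mul_inv_cancel_right]⟩
    · rintro ⟨j, hj⟩
      refine ⟨j, ?_⟩
      have h1 : x ^ j = w * u * w⁻¹ := hj
      show x ^ j = u
      calc x ^ j = w⁻¹ * x ^ j * w := by
            rw [mul_assoc, ← (Commute.zpow_right hwx j).eq, inv_mul_cancel_left]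
        _ = u := by rw [h1]; group
  obtain ⟨jx, hjx⟩ := pel_of_mem_pgroup PSolvable.pCore_isPGroup hx
  have hS := hW'.2.1.to_sup_of_normal_right'
    (IsPGroup.of_card (n := jx) (by rw [Nat.card_zpowers, hjx])) hnm
  obtain ⟨jS, hjS⟩ := IsPGroup.iff_card.1 hS
  have hle : jS ≤ vp q (C z) :=
    le_vp_of_pgroup (sup_le (hW'.1.trans inf_le_right) (zpowers_le.2 hxz)) hjS
  have heq : W' = W' ⊔ zpowers x := eq_of_le_of_card_ge le_sup_left (by
    rw [hjS, hW'.2.2, ← hve]; exact Nat.pow_le_pow_right hq.pos hle)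
  have hxW' : x ∈ W' := heq ▸ mem_sup_right (mem_zpowers x)
  rw [mem_centralizer_iff]
  intro v hv
  obtain ⟨j, rfl⟩ := hv
  exact ((Commute.zpow_right (mem_cent.1 (hW'.1 hxW').1) j).eq).symm

theorem idx_coprime {q : ℕ} (hq : q.Prime) (hqm : q ∣ m) {x : G} (hx : (orderOf x).Coprime q) :
    idx x = 1 ∨ idx x = m := by
  rcases S.cases x with h | h | h
  · exact Or.inl h
  · exact Or.inr h
  · exact absurd h (S.idx_ne_mn hq hqm hx)

theorem mem_pCore_of_pel {q : ℕ} (hq : q.Prime) (hqm : q ∣ m) {r : ℕ} (hr : r.Prime)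
    (hrq : r ≠ q) {y : G} (hy : IsPEl r y) : y ∈ Cfsg.pCore r G := by
  haveI := Fact.mk hq
  haveI := Fact.mk hr
  obtain ⟨b, hb⟩ : ∃ b, m = q ^ b := ⟨_, Nat.eq_prime_pow_of_unique_prime_dvd
    (zero_lt_one.trans S.hm).ne' fun {s} hs hsm => S.unique_m_prime hs hq hsm hqm⟩
  set X := Cfsg.pCore q G with hX
  haveI hXn : X.Normal := (by haveI := PSolvable.pCore_characteristic (p := q) (G := G); infer_instance)
  set π := QuotientGroup.mk' X
  set J := (Cfsg.pCore r (G ⧸ X)).comap π ⊓ centralizer (X : Set G) with hJ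
  haveI : (Cfsg.pCore r (G ⧸ X)).Normal :=
    (by haveI := PSolvable.pCore_characteristic (p := r) (G := G ⧸ X); infer_instance)
  haveI : J.Normal := inferInstance
  have hyJ : y ∈ J := by
    refine ⟨mem_comap.2 ?_, S.centralizes_pCore hq hqm hr hrq hy⟩
    obtain ⟨k, hk⟩ := hy
    have hord : orderOf (π y) ∣ r ^ k := hk ▸ orderOf_map_dvd π y
    obtain ⟨k', -, hk'⟩ := (Nat.dvd_prime_pow hr).1 hord
    have hidx : (centralizer ({π y} : Set (G ⧸ X))).index ∣ q ^ b := by
      refine (PrimePowerClass.index_centralizer_map_dvd (QuotientGroup.mk'_surjective X) y).trans ?_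
      rcases S.idx_coprime hq hqm ((show IsPEl r y from ⟨k, hk⟩).coprime_prime hr hq hrq) with
        e | e <;> rw [show (centralizer ({y} : Set G)).index = idx y from rfl, e]
      · exact one_dvd _
      · rw [hb]
    obtain ⟨a, -, ha⟩ := (Nat.dvd_prime_pow hq).1 hidx
    exact PrimePowerClass.mem_pCore_of_class_prime_pow (Nat.card (G ⧸ X)) _ le_rfl
      PSolvable.pCore_quotient_eq_bot _ a k' hk' ha
  have hnil : Group.IsNilpotent J := by
    haveI : Group.IsNilpotent (Cfsg.pCore r (G ⧸ X)) :=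
      (PSolvable.pCore_isPGroup (p := r) (G := G ⧸ X)).isNilpotent
    let f : J →* Cfsg.pCore r (G ⧸ X) :=
      (π.comp J.subtype).codRestrict _ fun j => mem_comap.1 j.2.1
    refine _root_.isNilpotent_of_ker_le_center f fun j hj => ?_
    have hjX : (j : G) ∈ X := by
      have : π (j : G) = 1 := congrArg Subtype.val hj
      exact (QuotientGroup.eq_one_iff _).1 this
    rw [mem_center_iff]
    exact fun g => Subtype.ext (mem_centralizer_iff.1 g.2.2 _ hjX).symm
  exact PrimePowerClass.mem_pCore_of_nilpotent_normal J hnil hyJ hy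

/-- elements of order prime to `m` commute -/
theorem coprime_commute {q : ℕ} (hq : q.Prime) (hqm : q ∣ m) {a b : G}
    (ha : (orderOf a).Coprime q) (hb : (orderOf b).Coprime q) : a * b = b * a := by
  have hprim : ∀ r s : ℕ, r.Prime → s.Prime → r ≠ q → s ≠ q → ∀ x y : G, IsPEl r x → IsPEl s y →
      x * y = y * x := by
    intro r s hr hs hrq hsq x y hx hy
    haveI := Fact.mk hr
    haveI := Fact.mk hs
    by_cases hrs : r = s
    · subst hrs
      by_cases hxc : x ∈ center G
      · exact (mem_center_iff.1 hxc y).symm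
      have hnd : ¬ r ∣ idx x := by
        rcases S.idx_coprime hq hqm (hx.coprime_prime hr hq hrq) with e | e <;> rw [e]
        · exact hr.not_dvd_one
        · exact fun h => hrq (S.unique_m_prime hr hq h hqm)
      obtain ⟨P, hP⟩ := ClassSize.exists_sylow_le_centralizer (p := r) hnd
      exact (mem_cent.1 (hP (PSolvable.pCore_le_sylow P
        (S.mem_pCore_of_pel hq hqm hs hrq hy)))).symm
    · haveI h1 : (Cfsg.pCore r G).Normal :=
        (by haveI := PSolvable.pCore_characteristic (p := r) (G := G); infer_instance)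
      haveI h2 : (Cfsg.pCore s G).Normal :=
        (by haveI := PSolvable.pCore_characteristic (p := s) (G := G); infer_instance)
      exact Subgroup.commute_of_normal_of_disjoint _ _ h1 h2
        (IsPGroup.disjoint_of_ne r s hrs _ _ PSolvable.pCore_isPGroup PSolvable.pCore_isPGroup)
        x y (S.mem_pCore_of_pel hq hqm hr hrq hx) (S.mem_pCore_of_pel hq hqm hs hsq hy)
  have hne : ∀ {c : G}, (orderOf c).Coprime q → ∀ r : ℕ, r.Prime → ∀ x ∈ zpowers c, IsPEl r x →
      x = 1 ∨ r ≠ q := by
    intro c hc r hr x hx hxr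
    by_cases h1 : x = 1
    · exact Or.inl h1
    · exact Or.inr fun e => (Nat.Prime.coprime_iff_not_dvd hq).1 hc.symm
        (e ▸ dvd_orderOf_of_part hxr hx h1)
  have : a ∈ centralizer ({b} : Set G) := by
    refine mem_of_parts _ a fun r hr x hx hxr => ?_
    rcases hne ha r hr x hx hxr with rfl | hrq
    · exact one_mem _
    refine mem_cent.2 ?_
    have : b ∈ centralizer ({x} : Set G) := by
      refine mem_of_parts _ b fun s hs y hy hys => ?_
      rcases hne hb s hs y hy hys with rfl | hsq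
      · exact one_mem _
      exact mem_cent.2 (hprim s r hs hr hsq hrq y x hys hxr)
    exact (mem_cent.1 this).symm
  exact mem_cent.1 this

/-- the normal abelian Hall subgroup of elements of order prime to `m` -/
theorem exists_K {q : ℕ} (hq : q.Prime) (hqm : q ∣ m) : ∃ K : Subgroup G, K.Normal ∧
    (∀ x, x ∈ K ↔ (orderOf x).Coprime q) ∧ (∀ a ∈ K, ∀ b ∈ K, a * b = b * a) ∧
    (Nat.card K).Coprime q ∧ ∃ a : ℕ, K.index = q ^ a := by
  haveI := Fact.mk hq
  let K : Subgroup G :=
    { carrier := {x | (orderOf x).Coprime q}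
      one_mem' := by simp
      mul_mem' := fun {a b} ha hb =>
        pow_order_coprime (S.coprime_commute hq hqm ha hb) ha hb
      inv_mem' := fun {a} ha => by simpa using ha }
  have hcard : (Nat.card K).Coprime q := by
    refine ((Nat.Prime.coprime_iff_not_dvd hq).2 fun h => ?_).symm
    obtain ⟨x, hx⟩ := exists_prime_orderOf_dvd_card' q h
    have : (orderOf (x : G)).Coprime q := x.2
    rw [Subgroup.orderOf_coe, hx, Nat.coprime_self] at this
    exact hq.ne_one this
  refine ⟨K, ⟨fun x hx g => ?_⟩, fun x => Iff.rfl,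
    fun a ha b hb => S.coprime_commute hq hqm ha hb, hcard, _,
    Nat.eq_prime_pow_of_unique_prime_dvd FiniteIndex.index_ne_zero fun {r} hr hd => ?_⟩
  · show (orderOf (g * x * g⁻¹)).Coprime q
    rw [orderOf_injective (MulAut.conj g).toMonoidHom (MulAut.conj g).injective x |> fun h =>
      (show orderOf (g * x * g⁻¹) = orderOf x from h)]
    exact hx
  · by_contra hrq
    haveI := Fact.mk hr
    obtain ⟨P⟩ : Nonempty (Sylow r G) := inferInstance
    refine P.not_dvd_index (hd.trans (index_dvd_of_le fun v hv => ?_))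
    exact (pel_of_mem_pgroup P.isPGroup' hv).coprime_prime hr hq hrq

end Sizes

end Cfsg.Agent.Lib.ClassSizeMMN
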