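import Cfsg.Agent.Lib.ClassSizeMMN.OnePrime
import Cfsg.Agent.Lib.Coprime.Generation
import Cfsg.Agent.Lib.Core.Nilpotent

/-!
Class sizes `{1, m, m * n}` with `m`, `n` coprime: the structure theorem.
-/

set_option autoImplicit false
set_option linter.style.haveILetI false

namespace Cfsg.Agent.Lib.ClassSizeMMN

open Subgroup Cfsg.Agent.Lib.ClassSizeTop
open scoped commutatorElement

universe u

variable {G : Type u} [Group G] [Finite G]

omit [Finite G] in
theorem cent_conj_of_commutator_central {g a u : G} (h : g * a * g⁻¹ * a⁻¹ ∈ center G)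
    (hu : g ∈ C u) : g ∈ C (a * u * a⁻¹) := by
  rw [mem_cent_iff_conj]
  set z := g * a * g⁻¹ * a⁻¹ with hz
  have h1 : g * u * g⁻¹ = u := mem_cent_iff_conj.1 hu
  have hga : g * a * g⁻¹ = z * a := by rw [hz]; group
  calc g * (a * u * a⁻¹) * g⁻¹ = (g * a * g⁻¹) * (g * u * g⁻¹) * (g * a * g⁻¹)⁻¹ := by group
    _ = z * (a * u * a⁻¹) * z⁻¹ := by rw [h1, hga]; group
    _ = a * u * a⁻¹ := by rw [← mem_center_iff.1 h, mul_inv_cancel_right]

/-- a normal subgroup of a Sylow subgroup, not in the centre, has an element central modulo the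
centre -/
theorem exists_normalized_in {p : ℕ} [Fact p.Prime] (P : Sylow p G) (E : Subgroup G)
    (hEP : E ≤ (P : Subgroup G)) (hEn : ∀ c ∈ (P : Subgroup G), ∀ x ∈ E, c * x * c⁻¹ ∈ E)
    (hE : ¬ E ≤ center G) :
    ∃ a ∈ E, a ∉ center G ∧ ∀ c ∈ (P : Subgroup G), c * a * c⁻¹ * a⁻¹ ∈ center G := by
  let N : Subgroup (P : Subgroup G) := (center G).subgroupOf (P : Subgroup G)
  haveI := (P.isPGroup'.to_quotient N).isNilpotent
  let E' : Subgroup ((P : Subgroup G) ⧸ N) :=
    (E.subgroupOf (P : Subgroup G)).map (QuotientGroup.mk' N)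
  haveI : (E.subgroupOf (P : Subgroup G)).Normal :=
    ⟨fun x hx g => mem_subgroupOf.2 (by simpa using hEn g g.2 x (mem_subgroupOf.1 hx))⟩
  haveI : E'.Normal := Subgroup.Normal.map inferInstance _ (QuotientGroup.mk'_surjective N)
  have hne : E' ≠ ⊥ := fun h => hE fun x hx => by
    have : (QuotientGroup.mk' N) ⟨x, hEP hx⟩ ∈ E' := mem_map_of_mem _ (mem_subgroupOf.2 hx)
    rw [h, mem_bot] at this
    exact mem_subgroupOf.1 ((QuotientGroup.eq_one_iff (N := N) (⟨x, hEP hx⟩ : (P : Subgroup G))).1 this)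
  obtain ⟨b, hb, hb1⟩ := (bot_or_exists_ne_one _).resolve_left (Nilp.inf_center_ne_bot_of_normal hne)
  obtain ⟨⟨a, ha, rfl⟩, hbc⟩ := mem_inf.1 hb
  refine ⟨a, mem_subgroupOf.1 ha, fun hc => hb1 ((QuotientGroup.eq_one_iff a).2 (mem_subgroupOf.2 hc)),
    fun c hc => ?_⟩
  have h1 := mem_center_iff.1 hbc (QuotientGroup.mk' N ⟨c, hc⟩)
  have h2 : (⟨c, hc⟩ * a * (⟨c, hc⟩)⁻¹ * a⁻¹ : (P : Subgroup G)) ∈ N := by
    rw [← QuotientGroup.eq_one_iff]
    show QuotientGroup.mk' N (⟨c, hc⟩ * a * (⟨c, hc⟩)⁻¹ * a⁻¹) = 1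
    rw [map_mul, map_mul, map_mul, map_inv, map_inv, h1, mul_inv_cancel_right, mul_inv_cancel]
  exact mem_subgroupOf.1 h2

namespace Sizes

variable {m n : ℕ} (S : Sizes G m n)
include S

theorem structure_theorem : m.Prime ∧ m ∣ n - 1 ∧
    (∃ M : Subgroup G, M.Normal ∧ (M : Set G) = {x : G | idx x = 1 ∨ idx x = m} ∧
      M.index = m ∧ IsMulCommutative M) ∧
    (∃ N : Subgroup G, N.Normal ∧ (Nat.card N).Coprime m ∧ ∃ a : ℕ, N.index = m ^ a) ∧
    ∀ P : Sylow m G, Nat.card (_root_.commutator (P : Subgroup G)) = m := by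
  classical
  obtain ⟨q, hq, hqm⟩ := Nat.exists_prime_and_dvd S.hm.ne'
  haveI := Fact.mk hq
  obtain ⟨b, hb⟩ : ∃ b, m = q ^ b := ⟨_, Nat.eq_prime_pow_of_unique_prime_dvd
    (zero_lt_one.trans S.hm).ne' fun {s} hs hsm => S.unique_m_prime hs hq hsm hqm⟩
  obtain ⟨K, hKn, hKiff, hKc, hKcop, i₀, hKi⟩ := S.exists_K hq hqm
  haveI := hKn
  haveI : IsMulCommutative K := ⟨⟨fun x y => Subtype.ext (hKc x x.2 y y.2)⟩⟩
  have hnq : ∀ r : ℕ, r.Prime → r ∣ n → r ≠ q := fun r hr hrn e =>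
    hr.not_dvd_one (S.cop ▸ Nat.dvd_gcd (e ▸ hqm) hrn)
  have hKbot : K ≠ ⊥ := by
    intro h
    obtain ⟨r, hr, hrn⟩ := Nat.exists_prime_and_dvd S.hn.ne'
    obtain ⟨a, ha, hac⟩ := S.exists_noncentral_n hr hrn
    have := (hKiff a).2 (ha.coprime_prime hr hq (hnq r hr hrn))
    rw [h, mem_bot] at this
    exact hac (this ▸ one_mem _)
  have hfull : ∀ r : ℕ, r.Prime → r ≠ q → ∀ P : Sylow r G, (P : Subgroup G) ≤ K := fun r hr hrq P v hv =>
    haveI := Fact.mk hr
    (hKiff v).2 ((pel_of_mem_pgroup P.isPGroup' hv).coprime_prime hr hq hrq)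
  -- statements for a fixed Sylow `q`-subgroup
  suffices H : ∀ Q : Sylow q G, b = 1 ∧ q ∣ n - 1 ∧
      (∃ M : Subgroup G, M.Normal ∧ (M : Set G) = {x : G | idx x = 1 ∨ idx x = m} ∧
        M.index = m ∧ IsMulCommutative M) ∧ Nat.card (_root_.commutator (Q : Subgroup G)) = q by
    obtain ⟨Q⟩ : Nonempty (Sylow q G) := inferInstance
    obtain ⟨hb1, hdvd, hM, -⟩ := H Q
    have hmq : m = q := by rw [hb, hb1, pow_one]
    refine ⟨hmq ▸ hq, hmq ▸ hdvd, hM, ⟨K, hKn, hmq ▸ hKcop, i₀, hmq ▸ hKi⟩, ?_⟩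
    subst hmq
    exact fun P => (H P).2.2.2
  intro Q
  obtain ⟨α, hα⟩ : ∃ α, Nat.card (Q : Subgroup G) = q ^ α := IsPGroup.iff_card.1 Q.isPGroup'
  have hKQ : K ⊓ (Q : Subgroup G) = ⊥ := by
    rw [eq_bot_iff]
    rintro x ⟨hx1, hx2⟩
    rw [mem_bot, ← orderOf_eq_one_iff]
    obtain ⟨k, hk⟩ := pel_of_mem_pgroup Q.isPGroup' hx2
    have h1 := (hKiff x).1 hx1
    rcases Nat.eq_zero_or_pos k with h0 | h0
    · rw [hk, h0, pow_zero]
    · exact absurd (hk ▸ dvd_pow_self q h0.ne') ((Nat.Prime.coprime_iff_not_dvd hq).1 h1.symm)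
  have hKQtop : K ⊔ (Q : Subgroup G) = ⊤ := by
    rw [← index_eq_one]
    exact Nat.eq_one_of_dvd_coprimes
      ((((Nat.Prime.coprime_iff_not_dvd hq).2 Q.not_dvd_index).pow_left i₀).symm)
      (index_dvd_of_le le_sup_right) (hKi ▸ index_dvd_of_le le_sup_left)
  have hdec : ∀ g : G, ∃ k ∈ K, ∃ s ∈ (Q : Subgroup G), g = k * s := by
    intro g
    have hg : g ∈ K ⊔ (Q : Subgroup G) := hKQtop ▸ mem_top g
    rw [mem_sup_of_normal_left] at hg
    obtain ⟨k, hk, s, hs, he⟩ := hg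
    exact ⟨k, hk, s, hs, he.symm⟩
  have hKQ1 : ∀ x, x ∈ K → x ∈ (Q : Subgroup G) → x = 1 := fun x h1 h2 =>
    (mem_bot).1 (hKQ ▸ mem_inf.2 ⟨h1, h2⟩)
  -- `K` meets the centre trivially
  have hKZ : K ⊓ center G = ⊥ := by
    have hAV : (Q : Subgroup G) ≤ normalizer (K : Set G) := by
      rw [Subgroup.normalizer_eq_top]; exact le_top
    have hcop : (Nat.card (Q : Subgroup G)).Coprime (Nat.card K) := by
      rw [hα]; exact hKcop.symm.pow_left α
    set D := ⁅K, (Q : Subgroup G)⁆ with hD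
    have hDK : D ≤ K := Coprime.commutator_le_of_le_normalizer hAV
    have hDn : D.Normal := by
      refine ⟨fun d hd g => ?_⟩
      obtain ⟨k, hk, s, hs, rfl⟩ := hdec g
      have h1 : s * d * s⁻¹ ∈ D := by
        have := Subgroup.normalizer_commutator_ge_right K (Q : Subgroup G) hs
        exact ((mem_normalizer_iff.1 this) d).1 hd
      rw [show k * s * d * (k * s)⁻¹ = k * (s * d * s⁻¹) * k⁻¹ by group,
        hKc k hk _ (hDK h1), mul_inv_cancel_right]
      exact h1
    haveI := hDn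
    have hNn : (D ⊔ (Q : Subgroup G)).Normal := by
      refine ⟨fun y hy g => ?_⟩
      obtain ⟨k, hk, s, hs, rfl⟩ := hdec g
      rw [mem_sup_of_normal_left] at hy
      obtain ⟨d, hd, t, ht, rfl⟩ := hy
      have h1 : s * t * s⁻¹ ∈ (Q : Subgroup G) := mul_mem (mul_mem hs ht) (inv_mem hs)
      have h2 : ⁅k, s * t * s⁻¹⁆ ∈ D := commutator_mem_commutator hk h1
      rw [show k * s * (d * t) * (k * s)⁻¹ = (k * s) * d * (k * s)⁻¹ *
        (⁅k, s * t * s⁻¹⁆ * (s * t * s⁻¹)) by rw [commutatorElement_def]; group]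
      exact mul_mem (mem_sup_left (hDn.conj_mem d hd _))
        (mul_mem (mem_sup_left h2) (mem_sup_right h1))
    have hAn : (K ⊓ center G).Normal := inferInstance
    have hfix : K ⊓ centralizer ((Q : Subgroup G) : Set G) = K ⊓ center G := by
      refine le_antisymm ?_ (inf_le_inf_left _ (center_le_centralizer _))
      rintro x ⟨hx, hxQ⟩
      refine ⟨hx, mem_center_iff.2 fun g => ?_⟩
      obtain ⟨k, hk, s, hs, rfl⟩ := hdec g
      rw [mul_assoc, mem_centralizer_iff.1 hxQ s hs, ← mul_assoc, hKc k hk x hx, mul_assoc]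
    have hsup : (K ⊓ center G) ⊔ D = K := by
      rw [← hfix]; exact Coprime.inf_centralizer_sup_commutator_eq hAV hcop
    refine S.noDF _ (D ⊔ (Q : Subgroup G)) hAn hNn ?_ ?_ ?_
    · rw [eq_bot_iff]
      rintro x ⟨hx, hxN⟩
      obtain ⟨d, hd, t, ht, rfl⟩ := mem_sup_of_normal_left.1 hxN
      have ht1 : t = 1 := hKQ1 t (by
        have := K.mul_mem (K.inv_mem (hDK hd)) hx.1
        rwa [inv_mul_cancel_left] at this) ht
      rw [ht1, mul_one] at hx ⊢
      rw [← Coprime.inf_centralizer_inf_commutator_eq_bot hAV hcop]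
      exact ⟨hfix.ge hx, hd⟩
    · rw [← sup_assoc, hsup, hKQtop]
    · exact ⟨⟨fun x y => Subtype.ext (hKc x x.2.1 y y.2.1)⟩⟩
  have hKc' : ∀ y ∈ K, y ≠ 1 → y ∉ center G := fun y hy hy1 hc =>
    hy1 (mem_bot.1 (hKZ ▸ mem_inf.2 ⟨hy, hc⟩))
  -- centralisers split along `G = K Q`
  have split1 : ∀ u ∈ K, ∀ g ∈ C u, ∀ k ∈ K, ∀ s ∈ (Q : Subgroup G), g = k * s → k ∈ C u ∧ s ∈ C u := by
    intro u hu g hg k hk s hs he
    have h1 : k ∈ C u := mem_cent.2 (hKc k hk u hu)
    refine ⟨h1, ?_⟩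
    have := (C u).mul_mem ((C u).inv_mem h1) hg
    rwa [he, inv_mul_cancel_left] at this
  have split2 : ∀ u ∈ (Q : Subgroup G), ∀ g ∈ C u, ∀ k ∈ K, ∀ s ∈ (Q : Subgroup G), g = k * s →
      k ∈ C u ∧ s ∈ C u := by
    intro u hu g hg k hk s hs he
    have h0 : k * (s * u * s⁻¹) * k⁻¹ = u := by
      have := mem_cent_iff_conj.1 hg
      rw [he] at this
      calc k * (s * u * s⁻¹) * k⁻¹ = k * s * u * (k * s)⁻¹ := by group
        _ = u := this
    have hmem : s * u * s⁻¹ * u⁻¹ ∈ K := by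
      have e : s * u * s⁻¹ * u⁻¹ = k⁻¹ * (u * k * u⁻¹) := by
        calc s * u * s⁻¹ * u⁻¹ = k⁻¹ * (k * (s * u * s⁻¹) * k⁻¹) * k * u⁻¹ := by group
          _ = k⁻¹ * (u * k * u⁻¹) := by rw [h0]; group
      rw [e]
      exact K.mul_mem (K.inv_mem hk) (hKn.conj_mem k hk u)
    have h1 := hKQ1 _ hmem (mul_mem (mul_mem (mul_mem hs hu) (inv_mem hs)) (inv_mem hu))
    have hsu : s * u * s⁻¹ = u := mul_inv_eq_one.1 h1
    rw [hsu] at h0
    exact ⟨mem_cent_iff_conj.2 h0, mem_cent_iff_conj.2 hsu⟩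
  have cardsplit : ∀ X : Subgroup G,
      (∀ g ∈ X, ∀ k ∈ K, ∀ s ∈ (Q : Subgroup G), g = k * s → k ∈ X ∧ s ∈ X) →
      Nat.card X = Nat.card (K ⊓ X : Subgroup G) * Nat.card ((Q : Subgroup G) ⊓ X : Subgroup G) := by
    intro X hX
    rw [← Nat.card_prod]
    refine (Nat.card_eq_of_bijective (fun p : (K ⊓ X : Subgroup G) × ((Q : Subgroup G) ⊓ X : Subgroup G) =>
      (⟨(p.1 : G) * p.2, X.mul_mem p.1.2.2 p.2.2.2⟩ : X)) ⟨?_, ?_⟩).symm
    · rintro ⟨k, s⟩ ⟨k', s'⟩ e
      have e' : (k : G) * s = k' * s' := congrArg Subtype.val e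
      have h1 : (k' : G)⁻¹ * k = s' * (s : G)⁻¹ := by
        rw [eq_mul_inv_iff_mul_eq, mul_assoc, e', inv_mul_cancel_left]
      have h2 := hKQ1 _ (K.mul_mem (K.inv_mem k'.2.1) k.2.1) (h1 ▸ mul_mem s'.2.1 (inv_mem s.2.1))
      rw [h2] at h1
      exact Prod.ext (Subtype.ext (inv_mul_eq_one.1 h2).symm)
        (Subtype.ext (mul_inv_eq_one.1 h1.symm).symm)
    · rintro ⟨g, hg⟩
      obtain ⟨k, hk, s, hs, he⟩ := hdec g
      obtain ⟨h1, h2⟩ := hX g hg k hk s hs he
      exact ⟨⟨⟨k, hk, h1⟩, ⟨s, hs, h2⟩⟩, Subtype.ext he.symm⟩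
  have vqsplit : ∀ X : Subgroup G,
      (∀ g ∈ X, ∀ k ∈ K, ∀ s ∈ (Q : Subgroup G), g = k * s → k ∈ X ∧ s ∈ X) →
      Nat.card ((Q : Subgroup G) ⊓ X : Subgroup G) = q ^ vp q X := by
    intro X hX
    obtain ⟨j, hj⟩ := IsPGroup.iff_card.1 (Q.isPGroup'.to_le inf_le_left :
      IsPGroup q ((Q : Subgroup G) ⊓ X : Subgroup G))
    have h0 : ¬ q ∣ Nat.card (K ⊓ X : Subgroup G) := fun h =>
      (Nat.Prime.coprime_iff_not_dvd hq).1 hKcop.symm (h.trans (card_dvd_of_le inf_le_left))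
    rw [vp, cardsplit X hX, Nat.factorization_mul Nat.card_pos.ne' Nat.card_pos.ne',
      Finsupp.add_apply, Nat.factorization_eq_zero_of_not_dvd h0, zero_add, hj,
      hq.factorization_pow, Finsupp.single_eq_same]
  obtain ⟨u₀, hu₀⟩ := S.exM
  have hu₀c := S.noncentral (Or.inl hu₀)
  set e := vp q (C u₀) with he_def
  have heα : e + b = α := by
    have h1 := vp_add_idx q u₀
    rw [hu₀, hb, hq.factorization_pow, Finsupp.single_eq_same] at h1
    have h2 : Nat.card (Q : Subgroup G) = q ^ (Nat.card G).factorization q := Q.card_eq_multiplicity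
    rw [hα] at h2
    rw [Nat.pow_right_injective hq.two_le h2, ← h1]
  have hb0 : 0 < b := Nat.pos_of_ne_zero fun h0 => by
    have := S.hm; rw [hb, h0, pow_zero] at this; omega
  have hCQ : ∀ x, (x ∈ K ∨ x ∈ (Q : Subgroup G)) → x ∉ center G →
      Nat.card ((Q : Subgroup G) ⊓ C x : Subgroup G) = q ^ e := by
    intro x hx hxc
    rw [vqsplit (C x) (hx.elim (fun h => split1 x h) fun h => split2 x h),
      S.vq_eq hq hqm hxc hu₀c]
  have hKey : ∀ s ∈ (Q : Subgroup G), s ∉ center G → ∀ y ∈ K, y ≠ 1 → s ∈ C y →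
      (Q : Subgroup G) ⊓ C s = (Q : Subgroup G) ⊓ C y := by
    intro s hs hsc y hy hy1 hsy
    have hyc := hKc' y hy hy1
    have hco : (orderOf y).Coprime (orderOf s) :=
      ((pel_of_mem_pgroup Q.isPGroup' hs).coprime_of ((hKiff y).1 hy)).symm
    have hC : C (y * s) = C y ⊓ C s :=
      cent_mul_of_coprime (show Commute y s from (mem_cent.1 hsy).symm) hco
    have hnc : y * s ∉ center G := fun hc => hyc (mem_center_iff.2 fun g => mem_cent.1
      ((hC.trans_le inf_le_left) (mem_cent.2 (mem_center_iff.1 hc g))))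
    have hcard : Nat.card ((Q : Subgroup G) ⊓ (C y ⊓ C s) : Subgroup G) = q ^ e := by
      rw [vqsplit (C y ⊓ C s) fun g hg k hk s' hs' he =>
        ⟨⟨(split1 y hy g hg.1 k hk s' hs' he).1, (split2 s hs g hg.2 k hk s' hs' he).1⟩,
          ⟨(split1 y hy g hg.1 k hk s' hs' he).2, (split2 s hs g hg.2 k hk s' hs' he).2⟩⟩,
        ← hC, S.vq_eq hq hqm hnc hu₀c]
    have h1 := eq_of_le_of_card_ge (inf_le_inf_left (Q : Subgroup G) (inf_le_left : C y ⊓ C s ≤ C y))
      (le_of_eq ((hCQ y (Or.inl hy) hyc).trans hcard.symm))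
    have h2 := eq_of_le_of_card_ge (inf_le_inf_left (Q : Subgroup G) (inf_le_right : C y ⊓ C s ≤ C s))
      (le_of_eq ((hCQ s (Or.inr hs) hsc).trans hcard.symm))
    exact h2.symm.trans h1
  have hexQ : ∀ x, (x ∈ K ∨ x ∈ (Q : Subgroup G)) → x ∉ center G →
      ∃ s ∈ (Q : Subgroup G), s ∈ C x ∧ s ∉ center G := by
    intro x hx hxc
    have hW : IsFull q (C x) ((Q : Subgroup G) ⊓ C x) :=
      ⟨inf_le_right, Q.isPGroup'.to_le inf_le_left,
        vqsplit (C x) (hx.elim (fun h => split1 x h) fun h => split2 x h)⟩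
    obtain ⟨s, hs, hsq, hsc⟩ := S.exists_qel hq hqm hxc
    obtain ⟨h, hh, hhs⟩ := hW.conj_mem hs hsq
    exact ⟨_, hhs.1, hhs.2, not_central_conj hsc h⟩
  set E := (Q : Subgroup G) ⊓ centralizer (K : Set G) with hE
  have hEn : ∀ c ∈ (Q : Subgroup G), ∀ x ∈ E, c * x * c⁻¹ ∈ E := fun c hc x hx =>
    ⟨(Q : Subgroup G).mul_mem ((Q : Subgroup G).mul_mem hc hx.1) ((Q : Subgroup G).inv_mem hc),
      (Subgroup.normal_centralizer (H := K)).conj_mem x hx.2 c⟩
  obtain ⟨y₁, hy₁, hy₁1⟩ := (bot_or_exists_ne_one K).resolve_left hKbot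
  have hK1m : ∀ s ∈ (Q : Subgroup G), s ∉ center G → idx s = m → s ∈ centralizer (K : Set G) := by
    intro s hs hsc hsm
    have hle : K ≤ C s := fun k hk => by
      refine mem_of_parts _ k fun r hr x hx hxr => ?_
      by_cases hx1 : x = 1
      · rw [hx1]; exact one_mem _
      haveI := Fact.mk hr
      have hrq : r ≠ q := fun e => (Nat.Prime.coprime_iff_not_dvd hq).1 ((hKiff k).1 hk).symm
        (e ▸ dvd_orderOf_of_part hxr hx hx1)
      have hnd : ¬ r ∣ idx s := by
        rw [hsm, hb]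
        exact fun h => hrq ((Nat.prime_dvd_prime_iff_eq hr hq).1 (hr.dvd_of_dvd_pow h))
      obtain ⟨P, hP⟩ := ClassSize.exists_sylow_le_centralizer (p := r) hnd
      exact hP (PSolvable.pCore_le_sylow P (S.mem_pCore_of_pel hq hqm hr hrq hxr))
    exact mem_centralizer_iff.2 fun k hk => mem_cent.1 (hle hk)
  -- some noncentral element of `Q` centralises `K`
  have hEnc : ¬ E ≤ center G := by
    intro hEc
    have hN : ∀ s ∈ (Q : Subgroup G), s ∉ center G → idx s = m * n := fun s hs hsc =>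
      (S.idx_or hsc).resolve_left fun hsm => hsc (hEc ⟨hs, hK1m s hs hsc hsm⟩)
    obtain ⟨s₁, hs₁, hs₁y, hs₁c⟩ := hexQ y₁ (Or.inl hy₁) (hKc' y₁ hy₁ hy₁1)
    have hF : ∀ s ∈ (Q : Subgroup G), s ∉ center G → ∃ y ∈ K, y ≠ 1 ∧ s ∈ C y := by
      intro s hs hsc
      have hcs := cardsplit (C s) (split2 s hs)
      have hcs1 := cardsplit (C s₁) (split2 s₁ hs₁)
      have hceq : Nat.card (C s) = Nat.card (C s₁) := by
        have h1 := (C s).card_mul_index
        have h2 := (C s₁).card_mul_index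
        rw [show (C s).index = idx s from rfl, hN s hs hsc] at h1
        rw [show (C s₁).index = idx s₁ from rfl, hN s₁ hs₁ hs₁c] at h2
        exact Nat.eq_of_mul_eq_mul_right (by have := S.m_lt; omega) (h1.trans h2.symm)
      rw [hCQ s (Or.inr hs) hsc] at hcs
      rw [hCQ s₁ (Or.inr hs₁) hs₁c] at hcs1
      rw [hcs, hcs1] at hceq
      have h3 := Nat.eq_of_mul_eq_mul_right (pow_pos hq.pos e) hceq
      obtain ⟨y, hy, hy1⟩ := (bot_or_exists_ne_one (K ⊓ C s)).resolve_left fun h0 => by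
        rw [h0, card_bot] at h3
        have : K ⊓ C s₁ = ⊥ := card_eq_one.1 h3.symm
        exact hy₁1 (mem_bot.1 (this ▸ mem_inf.2 ⟨hy₁, mem_C_comm.1 hs₁y⟩))
      exact ⟨y, hy.1, hy1, mem_C_comm.1 hy.2⟩
    obtain ⟨a, ha, hac, hnorm⟩ := exists_normalized_in Q (Q : Subgroup G) le_rfl
      (fun c hc x hx => mul_mem (mul_mem hc hx) (inv_mem hc)) fun h => hs₁c (h hs₁)
    obtain ⟨c, hc, hca⟩ : ∃ c ∈ (Q : Subgroup G), c ∉ C a := by
      by_contra h
      push Not at h
      have h1 := hCQ a (Or.inr ha) hac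
      rw [inf_eq_left.2 h, hα] at h1
      have := Nat.pow_right_injective hq.two_le h1
      omega
    have hcc : c ∉ center G := fun h => hca (center_le_C a h)
    obtain ⟨y, hy, hy1, hay⟩ := hF a ha hac
    obtain ⟨y', hy', hy'1, hcy'⟩ := hF c hc hcc
    have hWy := hKey a ha hac y hy hy1 hay
    have hWy' := hKey c hc hcc y' hy' hy'1 hcy'
    have hne : ¬ ((Q : Subgroup G) ⊓ C a = (Q : Subgroup G) ⊓ C c) := fun e =>
      hca (e ▸ mem_inf.2 ⟨hc, mem_cent.2 rfl⟩ : c ∈ (Q : Subgroup G) ⊓ C a).2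
    have hyy : y * y' ≠ 1 := fun e => hne (by
      have : C y = C y' := by
        rw [eq_inv_of_mul_eq_one_right e]
        ext g
        rw [mem_cent, mem_cent]
        exact ⟨fun h => (Commute.inv_right h).eq,
          fun h => by simpa using (Commute.inv_right h).eq⟩
      rw [hWy, hWy', this])
    obtain ⟨z, hz, hzyy, hzc⟩ := hexQ _ (Or.inl (K.mul_mem hy hy')) (hKc' _ (K.mul_mem hy hy') hyy)
    set δ := y'⁻¹ * (a * y' * a⁻¹) with hδ
    have hδK : δ ∈ K := K.mul_mem (K.inv_mem hy') (hKn.conj_mem y' hy' a)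
    have hzδ : z ∈ C δ := by
      have h1 := cent_conj_of_commutator_central (hnorm z hz) hzyy
      have e : δ = (y * y')⁻¹ * (a * (y * y') * a⁻¹) := by
        calc δ = y'⁻¹ * y⁻¹ * (y * (a * y' * a⁻¹)) := by rw [hδ]; group
          _ = y'⁻¹ * y⁻¹ * ((a * y * a⁻¹) * (a * y' * a⁻¹)) := by rw [mem_cent_iff_conj.1 hay]
          _ = _ := by group
      rw [e, mem_cent]
      exact ((Commute.inv_right (mem_cent.1 hzyy)).mul_right (mem_cent.1 h1)).eq
    have hcδ : c ∈ C δ := by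
      have h1 := cent_conj_of_commutator_central (hnorm c hc) hcy'
      rw [hδ, mem_cent]
      exact ((Commute.inv_right (mem_cent.1 hcy')).mul_right (mem_cent.1 h1)).eq
    have hδ1 : δ ≠ 1 := fun e => hne (by
      have h1 : a ∈ C y' := by
        rw [mem_cent_iff_conj]
        exact (inv_mul_eq_one.1 e).symm
      rw [hKey a ha hac y' hy' hy'1 h1, hWy'])
    have hzy' : z ∈ C y' := by
      have h1 : z ∈ (Q : Subgroup G) ⊓ C δ := ⟨hz, hzδ⟩
      rw [← hKey c hc hcc δ hδK hδ1 hcδ, hWy'] at h1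
      exact h1.2
    have hzy : z ∈ C y := by
      have h1 : z ∈ C y'⁻¹ := mem_cent.2 (Commute.inv_right (mem_cent.1 hzy')).eq
      rw [mem_cent]
      have := (Commute.mul_right (mem_cent.1 hzyy) (mem_cent.1 h1)).eq
      rwa [mul_inv_cancel_right] at this
    refine hne ?_
    rw [hWy, ← hKey z hz hzc y hy hy1 hzy, hKey z hz hzc y' hy' hy'1 hzy', ← hWy']
  obtain ⟨a, haE, hac, hnorm⟩ := exists_normalized_in Q E inf_le_left hEn hEnc
  have haK : ∀ y ∈ K, a ∈ C y := fun y hy => mem_cent.2 (mem_centralizer_iff.1 haE.2 y hy).symm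
  have hEC : E = (Q : Subgroup G) ⊓ C a := by
    refine le_antisymm (fun x hx => ?_) fun x hx => ⟨hx.1, mem_centralizer_iff.2 fun y hy => ?_⟩
    · rw [hKey a haE.1 hac y₁ hy₁ hy₁1 (haK y₁ hy₁)]
      exact ⟨hx.1, mem_cent.2 (mem_centralizer_iff.1 hx.2 y₁ hy₁).symm⟩
    · by_cases hy1 : y = 1
      · rw [hy1, one_mul, mul_one]
      have h := (hKey a haE.1 hac y hy hy1 (haK y hy)) ▸ hx
      exact (mem_cent.1 h.2).symm
  have hEcard : Nat.card E = q ^ e := hEC ▸ hCQ a (Or.inr haE.1) hac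
  have hEs : ∀ s ∈ (Q : Subgroup G), s ∉ center G → ∀ y ∈ K, y ≠ 1 → s ∈ C y →
      (Q : Subgroup G) ⊓ C s = E := by
    intro s hs hsc y hy hy1 hsy
    rw [hKey s hs hsc y hy hy1 hsy, ← hKey a haE.1 hac y hy hy1 (haK y hy), hEC]
  have hEcomm : ∀ x ∈ E, ∀ x' ∈ E, x * x' = x' * x := by
    intro x hx x' hx'
    by_cases hxc : x ∈ center G
    · exact (mem_center_iff.1 hxc x').symm
    have h := hEs x hx.1 hxc y₁ hy₁ hy₁1 (mem_cent.2 (mem_centralizer_iff.1 hx.2 y₁ hy₁).symm)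
    exact (mem_cent.1 (h.ge hx').2).symm
  set M := centralizer (K : Set G) with hM
  haveI hMn : M.Normal := Subgroup.normal_centralizer
  have hKM : K ≤ M := fun k hk => mem_centralizer_iff.2 fun x hx => hKc x hx k hk
  have hMsplit : ∀ g ∈ M, ∀ k ∈ K, ∀ s ∈ (Q : Subgroup G), g = k * s → k ∈ M ∧ s ∈ M := by
    intro g hg k hk s hs he
    refine ⟨hKM hk, ?_⟩
    have := M.mul_mem (M.inv_mem (hKM hk)) hg
    rwa [he, inv_mul_cancel_left] at this
  have hMcard : Nat.card M = Nat.card K * q ^ e := by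
    rw [cardsplit M hMsplit, inf_eq_left.2 hKM]
    exact congrArg (Nat.card K * ·) hEcard
  have hGcard : Nat.card G = Nat.card K * q ^ α := by
    have h := cardsplit ⊤ fun g _ k _ s _ _ => ⟨mem_top k, mem_top s⟩
    rwa [inf_top_eq, inf_top_eq, card_top, hα] at h
  have hMidx : M.index = m := by
    have h := M.card_mul_index
    rw [hMcard, hGcard, ← heα, pow_add, ← mul_assoc] at h
    rw [hb]
    exact Nat.eq_of_mul_eq_mul_left (Nat.mul_pos Nat.card_pos (pow_pos hq.pos e)) h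
  have hMcomm : ∀ x ∈ M, ∀ x' ∈ M, x * x' = x' * x := by
    intro x hx x' hx'
    obtain ⟨k, hk, s, hs, rfl⟩ := hdec x
    obtain ⟨k', hk', s', hs', rfl⟩ := hdec x'
    have h1 := (hMsplit _ hx k hk s hs rfl).2
    have h2 := (hMsplit _ hx' k' hk' s' hs' rfl).2
    have e1 : s * k' = k' * s := (mem_centralizer_iff.1 h1 k' hk').symm
    have e2 : s' * k = k * s' := (mem_centralizer_iff.1 h2 k hk).symm
    calc k * s * (k' * s') = k * (s * k') * s' := by group
      _ = (k * k') * (s * s') := by rw [e1]; group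
      _ = (k' * k) * (s' * s) := by rw [hKc k hk k' hk', hEcomm s ⟨hs, h1⟩ s' ⟨hs', h2⟩]
      _ = k' * (k * s') * s := by group
      _ = k' * (s' * k) * s := by rw [e2]
      _ = k' * s' * (k * s) := by group
  have hMset : (M : Set G) = {x : G | idx x = 1 ∨ idx x = m} := by
    ext g
    constructor
    · intro hg
      have hle : M ≤ C g := fun x hx => mem_cent.2 (hMcomm x hx g hg)
      rcases S.cases g with h | h | h
      · exact Or.inl h
      · exact Or.inr h
      · exfalso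
        have h1 : idx g ∣ M.index := index_dvd_of_le hle
        rw [h, hMidx] at h1
        exact absurd (Nat.le_of_dvd (zero_lt_one.trans S.hm) h1) (not_le.2 S.m_lt)
    · intro hg
      refine mem_centralizer_iff.2 fun k hk => mem_cent.1 (?_ : k ∈ C g)
      refine mem_of_parts _ k fun r hr x hx hxr => ?_
      by_cases hx1 : x = 1
      · rw [hx1]; exact one_mem _
      haveI := Fact.mk hr
      have hrq : r ≠ q := fun e => (Nat.Prime.coprime_iff_not_dvd hq).1 ((hKiff k).1 hk).symm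
        (e ▸ dvd_orderOf_of_part hxr hx hx1)
      have hnd : ¬ r ∣ idx g := by
        rcases hg with h | h <;> rw [h]
        · exact hr.not_dvd_one
        · rw [hb]; exact fun h => hrq ((Nat.prime_dvd_prime_iff_eq hr hq).1 (hr.dvd_of_dvd_pow h))
      obtain ⟨P, hP⟩ := ClassSize.exists_sylow_le_centralizer (p := r) hnd
      exact hP (PSolvable.pCore_le_sylow P (S.mem_pCore_of_pel hq hqm hr hrq hxr))
  -- elements outside `E`
  have hfree : ∀ c ∈ (Q : Subgroup G), c ∉ E → ∀ y ∈ K, c ∈ C y → y = 1 := by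
    intro c hc hcE y hy hcy
    by_contra hy1
    have hcc : c ∉ center G := fun h => hcE
      ⟨hc, mem_centralizer_iff.2 fun k _ => mem_center_iff.1 h k⟩
    exact hcE ((hEs c hc hcc y hy hy1 hcy).le ⟨hc, mem_cent.2 rfl⟩)
  obtain ⟨c, hc, hcE⟩ : ∃ c ∈ (Q : Subgroup G), c ∉ E := by
    by_contra h
    push Not at h
    have h1 := hEcard
    rw [show E = (Q : Subgroup G) from le_antisymm inf_le_left h, hα] at h1
    have := Nat.pow_right_injective hq.two_le h1
    omega
  have hcc : c ∉ center G := fun h => hcE ⟨hc, mem_centralizer_iff.2 fun k _ => mem_center_iff.1 h k⟩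
  -- the commutator map
  let φ : (Q : Subgroup G) →* center G :=
    { toFun := fun x => ⟨x * a * (x : G)⁻¹ * a⁻¹, hnorm x x.2⟩
      map_one' := Subtype.ext (by simp)
      map_mul' := fun x y => Subtype.ext (by
        show (x : G) * y * a * ((x : G) * y)⁻¹ * a⁻¹ =
          (x : G) * a * (x : G)⁻¹ * a⁻¹ * ((y : G) * a * (y : G)⁻¹ * a⁻¹)
        rw [mem_center_iff.1 (hnorm y y.2) ((x : G) * a * (x : G)⁻¹ * a⁻¹)]
        set ζ := (y : G) * a * (y : G)⁻¹ * a⁻¹ with hζ
        calc (x : G) * y * a * ((x : G) * y)⁻¹ * a⁻¹ = (x : G) * ζ * (a * (x : G)⁻¹ * a⁻¹) := by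
              rw [hζ]; group
          _ = ζ * ((x : G) * a * (x : G)⁻¹ * a⁻¹) := by
              rw [mem_center_iff.1 (hnorm y y.2) (x : G), hζ]; group) }
  have hφker : ∀ x : (Q : Subgroup G), φ x = 1 ↔ (x : G) ∈ E := by
    intro x
    rw [hEC, mem_inf, mem_cent_iff_conj]
    constructor
    · intro h
      exact ⟨x.2, mul_inv_eq_one.1 (congrArg Subtype.val h)⟩
    · intro h
      exact Subtype.ext (show (x : G) * a * (x : G)⁻¹ * a⁻¹ = 1 by rw [h.2, mul_inv_cancel])
  have hpowa : ∀ (x : (Q : Subgroup G)) (j : ℕ),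
      (x : G) * a ^ j * (x : G)⁻¹ = ((φ x : G)) ^ j * a ^ j := by
    intro x j
    have h1 : (x : G) * a * (x : G)⁻¹ = (φ x : G) * a :=
      (inv_mul_cancel_right ((x : G) * a * (x : G)⁻¹) a).symm
    rw [← conj_pow, h1, (show Commute (φ x : G) a from (mem_center_iff.1 (φ x).2 a).symm).mul_pow]
  -- exponent `q` modulo `E`
  have hexp : ∀ x : (Q : Subgroup G), ((x : G) ^ q) ∈ E := by
    intro x
    by_contra hx
    have hφq : φ x ^ q ≠ 1 := by
      rw [← map_pow, ne_eq, hφker]; exact hx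
    obtain ⟨i, hi⟩ : ∃ i, orderOf (φ x) = q ^ i := by
      obtain ⟨j, hj⟩ := pel_of_mem_pgroup Q.isPGroup' x.2
      have := orderOf_map_dvd φ x
      rw [← Subgroup.orderOf_coe x, hj] at this
      obtain ⟨i, -, hi⟩ := (Nat.dvd_prime_pow hq).1 this
      exact ⟨i, hi⟩
    obtain ⟨i', rfl⟩ : ∃ i', i = i' + 1 := ⟨i - 1, by
      rcases Nat.eq_zero_or_pos i with h0 | h0
      · rw [h0, pow_zero, orderOf_eq_one_iff] at hi
        exact absurd (by rw [hi, one_pow]) hφq
      · omega⟩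
    set j := q ^ i'
    have hj1 : φ x ^ j ≠ 1 := pow_ne_one_of_lt_orderOf (pow_ne_zero _ hq.ne_zero)
      (by rw [hi]; exact Nat.pow_lt_pow_right hq.one_lt (by omega))
    have hj2 : (φ x ^ q) ^ j = 1 := by
      rw [← pow_mul, show q * j = q ^ (i' + 1) by rw [pow_succ', ], ← hi, pow_orderOf_eq_one]
    have ha'E : a ^ j ∈ E := pow_mem haE j
    have ha'c : a ^ j ∉ center G := fun h => hj1 (Subtype.ext (by
      show ((φ x : G)) ^ j = 1
      have := hpowa x j
      rw [mem_center_iff.1 h (x : G), mul_inv_cancel_right] at this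
      exact mul_eq_right.1 this.symm))
    apply hx
    have h1 := hEs (a ^ j) ha'E.1 ha'c y₁ hy₁ hy₁1
      (mem_cent.2 (mem_centralizer_iff.1 ha'E.2 y₁ hy₁).symm)
    rw [← h1]
    refine ⟨pow_mem x.2 q, mem_cent_iff_conj.2 ?_⟩
    have h2 := hpowa (x ^ q) j
    rw [map_pow, SubmonoidClass.coe_pow] at h2
    rw [h2, show ((φ x ^ q : center G) : G) ^ j = (((φ x ^ q) ^ j : center G) : G) from rfl, hj2,
      OneMemClass.coe_one, one_mul]
  set E' := E.subgroupOf (Q : Subgroup G) with hE'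
  haveI : E'.Normal := ⟨fun x hx g => mem_subgroupOf.2 (by
    simpa using hEn g g.2 x (mem_subgroupOf.1 hx))⟩
  -- `Q / E` has order `q`
  have hQE : ∀ s ∈ (Q : Subgroup G), s ∈ E ⊔ zpowers c := by
    intro s hs
    by_contra hsn
    -- work modulo `E`, which is normal
    haveI hEnorm : E.Normal := by
      refine ⟨fun x hx g => ?_⟩
      obtain ⟨k, hk, t, ht, rfl⟩ := hdec g
      have h1 := hEn t ht x hx
      rw [show k * t * x * (k * t)⁻¹ = k * (t * x * t⁻¹) * k⁻¹ by group,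
        mem_centralizer_iff.1 h1.2 k hk, mul_inv_cancel_right]
      exact h1
    set π := QuotientGroup.mk' E
    have hπ : ∀ x, π x = 1 ↔ x ∈ E := fun x => QuotientGroup.eq_one_iff x
    have hcomm : Commute (π s) (π c) := by
      show π s * π c = π c * π s
      rw [← mul_inv_eq_one, ← map_mul, ← map_mul, ← map_inv, ← map_mul, hπ]
      have h1 : φ (⟨s, hs⟩ * ⟨c, hc⟩ * (⟨c, hc⟩ * ⟨s, hs⟩)⁻¹) = 1 := by
        rw [map_mul, map_mul, map_inv, map_mul, mul_inv_eq_one]
        exact Subtype.ext (mem_center_iff.1 (φ ⟨c, hc⟩).2 _)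
      exact (hφker _).1 h1
    have hsb : π s ∉ zpowers (π c) := by
      rintro ⟨i, hi⟩
      apply hsn
      have h1 : (c ^ i)⁻¹ * s ∈ E := by
        rw [← hπ, map_mul, map_inv, map_zpow]
        simp only at hi
        rw [hi, inv_mul_cancel]
      have h2 := mul_mem (show c ^ i ∈ E ⊔ zpowers c from mem_sup_right (zpow_mem (mem_zpowers c) i))
        (mem_sup_left (T := zpowers c) h1)
      rwa [mul_inv_cancel_left] at h2
    have hle : closure ({π s, π c} : Set (G ⧸ E)) ≤ (Q : Subgroup G).map π := by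
      rw [closure_le]
      rintro v (rfl | rfl)
      · exact mem_map_of_mem π hs
      · exact mem_map_of_mem π hc
    have hKE : K.map π ≤ ⊥ := by
      refine Coprime.le_of_pair hq (a := π s) (b := π c) ?_ ?_ hcomm ?_ ?_ (by rwa [ne_eq, hπ]) hsb ?_
      · exact hKcop.symm.coprime_dvd_right (card_map_dvd K π)
      · haveI : (K.map π).Normal := Subgroup.Normal.map hKn _ (QuotientGroup.mk'_surjective E)
        rw [Subgroup.normalizer_eq_top]; exact le_top
      · rw [← map_pow, hπ]; exact hexp ⟨s, hs⟩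
      · rw [← map_pow, hπ]; exact hexp ⟨c, hc⟩
      · intro x hx hx1
        obtain ⟨t, ht, rfl⟩ := hle hx
        rintro _ ⟨⟨k, hk, rfl⟩, hkt⟩
        have h1 : k * t * (t * k)⁻¹ ∈ E := by
          rw [← hπ, map_mul, map_inv, map_mul, map_mul, mem_centralizer_singleton_iff.1 hkt,
            mul_inv_cancel]
        have h2 : k * t * (t * k)⁻¹ ∈ K := by
          rw [show k * t * (t * k)⁻¹ = k * (t * k⁻¹ * t⁻¹) by group]
          exact K.mul_mem hk (hKn.conj_mem _ (K.inv_mem hk) t)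
        have h3 := hKQ1 _ h2 h1.1
        rw [mul_inv_eq_one] at h3
        have hk1 := hfree t ht (fun h => hx1 ((hπ t).2 h)) k hk (mem_cent.2 h3.symm)
        rw [mem_bot, hk1, map_one]
    apply hy₁1
    have := hKE (mem_map_of_mem π hy₁)
    rw [mem_bot, hπ] at this
    exact hKQ1 y₁ hy₁ this.1
  have hQcard : q ^ α ≤ q ^ e * q := by
    have hcE' : (⟨c, hc⟩ : (Q : Subgroup G)) ^ q ∈ E' := mem_subgroupOf.2 (hexp ⟨c, hc⟩)
    have hsup : E' ⊔ zpowers (⟨c, hc⟩ : (Q : Subgroup G)) = ⊤ := by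
      rw [eq_top_iff]
      intro x _
      have hle : E ⊔ zpowers c ≤ (E' ⊔ zpowers (⟨c, hc⟩ : (Q : Subgroup G))).map (Q : Subgroup G).subtype := by
        refine sup_le (fun v hv => ⟨⟨v, hv.1⟩, mem_sup_left (mem_subgroupOf.2 hv), rfl⟩) ?_
        rw [zpowers_le]
        exact ⟨⟨c, hc⟩, mem_sup_right (mem_zpowers _), rfl⟩
      obtain ⟨y, hy, hyx⟩ := hle (hQE x x.2)
      rwa [← Subtype.ext (show (y : G) = x from hyx)]
    have hquot : Nat.card ((Q : Subgroup G) ⧸ E') ≤ q := by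
      have hsurj : Function.Surjective (fun i : Fin q =>
          (QuotientGroup.mk' E' ⟨c, hc⟩) ^ (i : ℕ)) := by
        intro v
        induction v using QuotientGroup.induction_on with
        | _ x =>
          have hx : x ∈ E' ⊔ zpowers (⟨c, hc⟩ : (Q : Subgroup G)) := hsup ▸ mem_top x
          rw [mem_sup_of_normal_left] at hx
          obtain ⟨v', hv', w, ⟨i, rfl⟩, rfl⟩ := hx
          have hq0 : (0 : ℤ) < q := by exact_mod_cast hq.pos
          refine ⟨⟨(i % q).toNat, ?_⟩, ?_⟩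
          · have h2 := Int.emod_lt_of_pos i hq0
            have h3 := Int.emod_nonneg i hq0.ne'
            omega
          · show (QuotientGroup.mk' E' ⟨c, hc⟩) ^ (i % q).toNat =
              QuotientGroup.mk' E' (v' * (⟨c, hc⟩ : (Q : Subgroup G)) ^ i)
            rw [map_mul, show QuotientGroup.mk' E' v' = 1 from (QuotientGroup.eq_one_iff (N := E') v').2 hv',
              one_mul, map_zpow, ← zpow_natCast, Int.toNat_of_nonneg (Int.emod_nonneg i hq0.ne')]
            refine (zpow_eq_zpow_emod' i ?_).symm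
            rw [← map_pow]
            exact (QuotientGroup.eq_one_iff _).2 hcE'
      simpa using Nat.card_le_card_of_surjective _ hsurj
    have h2 := card_eq_card_quotient_mul_card_subgroup E'
    rw [Nat.card_congr (subgroupOfEquivOfLe (inf_le_left : E ≤ (Q : Subgroup G))).toEquiv,
      hEcard, hα] at h2
    rw [h2, mul_comm (q ^ e)]
    exact Nat.mul_le_mul_right _ hquot
  have hb1 : b = 1 := by
    rw [← pow_succ] at hQcard
    have := (Nat.pow_le_pow_iff_right hq.one_lt).1 hQcard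
    omega
  -- `n = |K|` and the congruence
  have hKn' : n = Nat.card K := by
    have hcs := cardsplit (C c) (split2 c hc)
    rw [hCQ c (Or.inr hc) hcc] at hcs
    have hKc1 : K ⊓ C c = ⊥ := eq_bot_iff.2 fun k hk =>
      mem_bot.2 (hfree c hc hcE k hk.1 (mem_C_comm.1 hk.2))
    rw [hKc1, card_bot, one_mul] at hcs
    have h1 := (C c).card_mul_index
    rw [hcs, hGcard, ← heα, pow_add, show (C c).index = idx c from rfl] at h1
    have hi : idx c = m * Nat.card K := by
      rw [hb]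
      refine Nat.eq_of_mul_eq_mul_left (pow_pos hq.pos e) (h1.trans ?_)
      ring
    rcases S.idx_or hcc with h | h
    · exfalso
      rw [h] at hi
      have hK1 : Nat.card K = 1 := by
        have := S.hm
        exact (mul_eq_left₀ (by omega : m ≠ 0)).1 hi.symm
      exact hKbot (card_eq_one.1 hK1)
    · rw [h] at hi
      exact Nat.eq_of_mul_eq_mul_left (zero_lt_one.trans S.hm) hi
  have hdvd : q ∣ n - 1 := by
    letI : MulAction (Q : Subgroup G) K := MulAction.compHom K ((MulAut.conjNormal (H := K)).comp (Q : Subgroup G).subtype)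
    have hmod := Q.isPGroup'.card_modEq_card_fixedPoints K
    have hfix : MulAction.fixedPoints (Q : Subgroup G) K = {1} := by
      ext k
      rw [MulAction.mem_fixedPoints, Set.mem_singleton_iff]
      constructor
      · intro h
        have h1 : c * (k : G) * c⁻¹ = k := by
          have := congrArg Subtype.val (h ⟨c, hc⟩)
          exact this
        exact Subtype.ext (hfree c hc hcE k k.2 (mem_cent_iff_conj.2 h1))
      · rintro rfl x
        exact map_one (MulAut.conjNormal ((x : G)) : MulAut K)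
    rw [hfix, show Nat.card ({1} : Set K) = 1 from by simp, ← hKn'] at hmod
    exact (Nat.modEq_iff_dvd' S.hn.le).1 hmod.symm
  -- the derived subgroup of `Q`
  refine ⟨hb1, hdvd, ⟨M, hMn, hMset, hMidx, ⟨⟨fun x y => Subtype.ext (hMcomm x x.2 y y.2)⟩⟩⟩, ?_⟩
  set Zq := center G ⊓ (Q : Subgroup G) with hZq
  have hZqE : Zq ≤ E := fun z hz =>
    ⟨hz.2, mem_centralizer_iff.2 fun k _ => mem_center_iff.1 hz.1 k⟩
  have hcapE : ∀ x ∈ E, x ∈ C c → x ∈ Zq := by
    intro x hx hxc
    refine ⟨?_, hx.1⟩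
    by_contra hxz
    have h := hEs x hx.1 hxz y₁ hy₁ hy₁1 (mem_cent.2 (mem_centralizer_iff.1 hx.2 y₁ hy₁).symm)
    exact hcE (h.le ⟨hc, mem_C_comm.1 hxc⟩)
  have hCc := hCQ c (Or.inr hc) hcc
  obtain ⟨z, hz⟩ := IsPGroup.iff_card.1 (Q.isPGroup'.to_le inf_le_right : IsPGroup q Zq)
  have hezq : q ^ e ≤ q * q ^ z := by
    rw [← hCc]
    set X := (Q : Subgroup G) ⊓ C c
    have h2 := card_eq_card_quotient_mul_card_subgroup (E.subgroupOf X)
    have h3 : Nat.card (E.subgroupOf X) ≤ q ^ z := by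
      rw [← hz]
      refine Nat.card_le_card_of_injective
        (fun v => (⟨((v : X) : G), hcapE _ (mem_subgroupOf.1 v.2) (v : X).2.2⟩ : Zq)) ?_
      exact fun v w h => Subtype.ext (Subtype.ext (congrArg (fun t : Zq => (t : G)) h))
    have h4 : Nat.card (X ⧸ E.subgroupOf X) ≤ q := by
      have h5 : Nat.card ((Q : Subgroup G) ⧸ E') ≤ q := by
        have := card_eq_card_quotient_mul_card_subgroup E'
        rw [Nat.card_congr (subgroupOfEquivOfLe (inf_le_left : E ≤ (Q : Subgroup G))).toEquiv,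
          hEcard, hα] at this
        refine Nat.le_of_mul_le_mul_right (c := q ^ e) ?_ (pow_pos hq.pos e)
        rw [← this, mul_comm]
        exact hQcard
      refine le_trans ?_ h5
      refine Nat.card_le_card_of_injective (Quotient.map' (fun v : X => (⟨v, v.2.1⟩ : (Q : Subgroup G))) ?_) ?_
      · intro v w h
        rw [QuotientGroup.leftRel_apply] at h ⊢
        exact mem_subgroupOf.2 (by simpa using mem_subgroupOf.1 h)
      · intro v w h
        induction v using QuotientGroup.induction_on with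
        | _ v =>
          induction w using QuotientGroup.induction_on with
          | _ w =>
            rw [QuotientGroup.eq]
            have := (QuotientGroup.eq (s := E')).1 h
            exact mem_subgroupOf.2 (by simpa using mem_subgroupOf.1 this)
    rw [h2]
    exact Nat.mul_le_mul h4 h3
  have hEgen : E = Zq ⊔ zpowers a := by
    have hle : Zq ⊔ zpowers a ≤ E := sup_le hZqE (zpowers_le.2 haE)
    refine (eq_of_le_of_card_ge hle ?_).symm
    obtain ⟨j, hj⟩ := IsPGroup.iff_card.1 (Q.isPGroup'.to_le (hle.trans inf_le_left) :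
      IsPGroup q (Zq ⊔ zpowers a : Subgroup G))
    have hlt : z < j := by
      have h1 : Zq < Zq ⊔ zpowers a := lt_of_le_of_ne le_sup_left fun h =>
        hac (h ▸ mem_sup_right (mem_zpowers a) : a ∈ Zq).1
      have h2 : Nat.card Zq < Nat.card (Zq ⊔ zpowers a : Subgroup G) := by
        rcases (card_le_of_le h1.le).lt_or_eq with h | h
        · exact h
        · exact absurd (eq_of_le_of_card_ge h1.le h.ge) h1.ne
      rw [hz, hj] at h2
      exact (Nat.pow_lt_pow_iff_right hq.one_lt).1 h2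
    rw [hEcard, hj]
    refine hezq.trans ?_
    rw [← pow_succ']
    exact Nat.pow_le_pow_right hq.pos hlt
  set ζ : G := (φ ⟨c, hc⟩ : G) with hζ_def
  have hζc : ζ ∈ center G := (φ ⟨c, hc⟩).2
  have hζQ : ζ ∈ (Q : Subgroup G) :=
    mul_mem (mul_mem (mul_mem hc haE.1) (inv_mem hc)) (inv_mem haE.1)
  set L : Subgroup (Q : Subgroup G) := zpowers ⟨ζ, hζQ⟩ with hL
  haveI : L.Normal := ⟨fun x hx g => by
    obtain ⟨i, rfl⟩ := hx
    refine ⟨i, Subtype.ext ?_⟩
    show ζ ^ i = (g : G) * ζ ^ i * (g : G)⁻¹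
    rw [mem_center_iff.1 (zpow_mem hζc i) (g : G), mul_inv_cancel_right]⟩
  have hLcard : Nat.card L = q := by
    rw [hL, Nat.card_zpowers, ← Subgroup.orderOf_coe]
    refine orderOf_eq_prime ?_ ?_
    · show ζ ^ q = 1
      have h := (hφker (⟨c, hc⟩ ^ q)).2 (hexp ⟨c, hc⟩)
      rw [map_pow] at h
      exact congrArg Subtype.val h
    · exact fun h => hcE ((hφker ⟨c, hc⟩).1 (Subtype.ext h))
  refine Eq.trans ?_ hLcard
  have hζcomm : (⟨ζ, hζQ⟩ : (Q : Subgroup G)) ∈ _root_.commutator (Q : Subgroup G) := by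
    have h : (⟨ζ, hζQ⟩ : (Q : Subgroup G)) = ⁅(⟨c, hc⟩ : (Q : Subgroup G)), ⟨a, haE.1⟩⁆ :=
      Subtype.ext (by simp [commutatorElement_def, hζ_def, φ])
    rw [h, _root_.commutator_def]
    exact commutator_mem_commutator (mem_top _) (mem_top _)
  refine congrArg (fun H : Subgroup (Q : Subgroup G) => Nat.card H)
    (le_antisymm ?_ (zpowers_le.2 hζcomm))
  -- the quotient by `L` is commutative
  set π := QuotientGroup.mk' L
  have hcomm_all : ∀ x y : (Q : Subgroup G) ⧸ L, x * y = y * x := by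
    have hca' : π ⟨c, hc⟩ * π ⟨a, haE.1⟩ = π ⟨a, haE.1⟩ * π ⟨c, hc⟩ := by
      rw [← mul_inv_eq_one, ← map_mul, ← map_mul, ← map_inv, ← map_mul]
      refine (QuotientGroup.eq_one_iff _).2 ⟨1, Subtype.ext ?_⟩
      show (ζ ^ (1 : ℤ)) = c * a * (a * c)⁻¹
      rw [zpow_one, hζ_def]
      show c * a * c⁻¹ * a⁻¹ = _
      group
    let T : Subgroup (Q : Subgroup G) := E' ⊔ zpowers (⟨c, hc⟩ : (Q : Subgroup G))
    have hT : T = ⊤ := by
      rw [eq_top_iff]
      intro x _
      have hle : E ⊔ zpowers c ≤ T.map (Q : Subgroup G).subtype := by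
        refine sup_le (fun v hv => ⟨⟨v, hv.1⟩, mem_sup_left (mem_subgroupOf.2 hv), rfl⟩) ?_
        rw [zpowers_le]
        exact ⟨⟨c, hc⟩, mem_sup_right (mem_zpowers _), rfl⟩
      obtain ⟨y, hy, hyx⟩ := hle (hQE x x.2)
      rwa [← Subtype.ext (show (y : G) = x from hyx)]
    have hgen : ∀ x : (Q : Subgroup G), x ∈ E' → π x * π ⟨c, hc⟩ = π ⟨c, hc⟩ * π x := by
      intro x hx
      have hx' : (x : G) ∈ Zq ⊔ zpowers a := hEgen ▸ mem_subgroupOf.1 hx
      haveI : Zq.Normal := ⟨fun v hv g => by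
        rw [mem_center_iff.1 hv.1 g, mul_inv_cancel_right]; exact hv⟩
      obtain ⟨v, hv, w, hw, hvw⟩ := mem_sup_of_normal_left.1 hx'
      obtain ⟨i, rfl⟩ := hw
      have e : x = (⟨v, hv.2⟩ : (Q : Subgroup G)) * ⟨a, haE.1⟩ ^ i := Subtype.ext hvw.symm
      rw [e, map_mul, map_zpow]
      refine (Commute.mul_left ?_ (Commute.zpow_left ?_ i)).eq
      · show π ⟨v, hv.2⟩ * π ⟨c, hc⟩ = π ⟨c, hc⟩ * π ⟨v, hv.2⟩
        rw [← map_mul, ← map_mul]
        exact congrArg π (Subtype.ext (mem_center_iff.1 hv.1 c).symm)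
      · exact hca'.symm
    have h1 : ∀ x ∈ T, ∀ y ∈ E', π x * π y = π y * π x := by
      intro x hx y hy
      rw [mem_sup_of_normal_left] at hx
      obtain ⟨v, hv, w, ⟨i, rfl⟩, rfl⟩ := hx
      rw [map_mul, map_zpow]
      refine (Commute.mul_left ?_ (Commute.zpow_left (hgen y hy).symm i)).eq
      show π v * π y = π y * π v
      rw [← map_mul, ← map_mul]
      exact congrArg π (Subtype.ext (hEcomm _ (mem_subgroupOf.1 hv) _ (mem_subgroupOf.1 hy)))
    intro x y
    induction x using QuotientGroup.induction_on with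
    | _ x =>
      induction y using QuotientGroup.induction_on with
      | _ y =>
        show π x * π y = π y * π x
        have hy : y ∈ T := hT ▸ mem_top y
        rw [mem_sup_of_normal_left] at hy
        obtain ⟨v, hv, w, ⟨i, rfl⟩, rfl⟩ := hy
        rw [map_mul, map_zpow]
        refine (Commute.mul_right (h1 x (hT ▸ mem_top x) v hv) (Commute.zpow_right ?_ i)).eq
        have hx : x ∈ T := hT ▸ mem_top x
        rw [mem_sup_of_normal_left] at hx
        obtain ⟨v', hv', w', ⟨i', rfl⟩, rfl⟩ := hx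
        rw [map_mul, map_zpow]
        exact Commute.mul_left (hgen v' hv') (Commute.zpow_self _ i')
  rw [_root_.commutator_def, Subgroup.commutator_le]
  intro x _ y _
  rw [← QuotientGroup.eq_one_iff]
  show π ⁅x, y⁆ = 1
  rw [map_commutatorElement, commutatorElement_eq_one_iff_mul_comm]
  exact hcomm_all _ _

end Sizes

end Cfsg.Agent.Lib.ClassSizeMMN
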