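import Cfsg.Agent.Lib.ClassSizeMMN.XLemma
import Cfsg.Agent.Lib.Burnside.Paqb
import Cfsg.Agent.Lib.Core.Fitting
import Cfsg.Agent.Lib.Coprime.Basic

/-!
Class sizes `{1, m, m * n}` with `m` a prime power: the cases of one and of two prime divisors of
`n` in the proof that elements of order prime to `m` have class size at most `m`.
-/

set_option autoImplicit false
set_option linter.style.haveILetI false

namespace Cfsg.Agent.Lib.ClassSizeMMN

open Subgroup Cfsg.Agent.Lib.ClassSizeTop

variable {G : Type*} [Group G] [Finite G]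

omit [Finite G] in
theorem pow_order_coprime {a b : G} (h : Commute a b) {q : ℕ} (ha : (orderOf a).Coprime q)
    (hb : (orderOf b).Coprime q) : (orderOf (a * b)).Coprime q :=
  (Nat.Coprime.mul_left ha hb).coprime_dvd_left (h.orderOf_mul_dvd_lcm.trans (Nat.lcm_dvd_mul _ _))

theorem dvd_card_of_pel {p : ℕ} {a : G} (ha : IsPEl p a) (hac : a ∉ center G) :
    p ∣ Nat.card G := by
  obtain ⟨k, hk⟩ := ha
  have h1 : k ≠ 0 := fun h0 => hac (by
    rw [h0, pow_zero, orderOf_eq_one_iff] at hk; rw [hk]; exact one_mem _)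
  exact (dvd_pow_self p h1).trans (hk ▸ orderOf_dvd_natCard a)

theorem dvd_orderOf_of_part {p : ℕ} {a x : G} (ha : IsPEl p a) (hax : a ∈ zpowers x)
    (ha1 : a ≠ 1) : p ∣ orderOf x := by
  obtain ⟨k, hk⟩ := ha
  refine ((dvd_pow_self p ?_).trans hk.symm.dvd).trans (orderOf_dvd_of_mem_zpowers hax)
  rintro rfl
  exact ha1 (orderOf_eq_one_iff.1 hk)

namespace Sizes

variable {m n : ℕ} (S : Sizes G m n)
include S

theorem no_two_n {q : ℕ} (hq : q.Prime) (hqm : q ∣ m) {t s : ℕ} (ht : t.Prime) (hs : s.Prime)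
    (htn : t ∣ n) (hsn : s ∣ n) (hts : t ≠ s) {w : G} (hw : IsPEl t w) (hwm : idx w = m)
    {x : G} (hx : IsPEl s x) (hxm : idx x = m) {z : G} (hz : z ∈ C w) (hzq : IsPEl q z)
    (hznc : ¬ C w ≤ C z) : False := by
  haveI := Fact.mk hq
  haveI := Fact.mk hs
  haveI := Fact.mk ht
  set D := C w with hD
  have hm := S.hm
  have htq : t ≠ q := fun e => hq.not_dvd_one (S.cop ▸ Nat.dvd_gcd hqm (e ▸ htn))
  have hsq : s ≠ q := fun e => hq.not_dvd_one (S.cop ▸ Nat.dvd_gcd hqm (e ▸ hsn))
  have hwc : w ∉ center G := S.noncentral (Or.inl hwm)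
  obtain ⟨P, hP⟩ := ClassSize.exists_sylow_le_centralizer (p := s) (S.not_dvd_M hs hsn hwm)
  obtain ⟨P', hP'⟩ := ClassSize.exists_sylow_le_centralizer (p := s) (S.not_dvd_M hs hsn hxm)
  obtain ⟨k, hk⟩ := MulAction.exists_smul_eq G P' P
  have hPc : (P : Subgroup G) ≤ C (k * x * k⁻¹) := by
    intro v hv
    rw [← hk, Sylow.coe_subgroup_smul, Subgroup.mem_pointwise_smul_iff_inv_smul_mem] at hv
    have h1 : k⁻¹ * v * k ∈ C x := hP' (by simpa [MulAut.smul_def, mul_assoc] using hv)
    have := conj_mem_C h1 k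
    simpa [mul_assoc] using this
  set c := k * x * k⁻¹ with hc
  have hcs : IsPEl s c := hx.conj k
  have hcc : c ∉ center G := not_central_conj (S.noncentral (Or.inl hxm)) k
  have hcP : c ∈ (P : Subgroup G) := by
    obtain ⟨j, hj⟩ := hcs
    have hnm : (P : Subgroup G) ≤ normalizer (zpowers c : Set G) := by
      intro v hv
      rw [mem_normalizer_iff]
      intro u
      have hvc : v * c = c * v := mem_cent.1 (hPc hv)
      constructor
      · rintro ⟨i, rfl⟩
        exact ⟨i, by
          show c ^ i = v * c ^ i * v⁻¹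
          rw [(Commute.zpow_right hvc i).eq, mul_inv_cancel_right]⟩
      · rintro ⟨i, hi⟩
        refine ⟨i, ?_⟩
        have h1 : c ^ i = v * u * v⁻¹ := hi
        show c ^ i = u
        calc c ^ i = v⁻¹ * (c ^ i) * v := by
              rw [mul_assoc, ← (Commute.zpow_right hvc i).eq, inv_mul_cancel_left]
          _ = u := by rw [h1]; group
    have hsup := P.isPGroup'.to_sup_of_normal_right'
      (IsPGroup.of_card (n := j) (by rw [Nat.card_zpowers, hj])) hnm
    exact (P.is_maximal' hsup le_sup_left) ▸ mem_sup_right (mem_zpowers c)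
  have hcD : c ∈ D := hP hcP
  have hwcC : C (w * c) = D ⊓ C c :=
    cent_mul_of_coprime (show Commute w c from (mem_cent.1 hcD).symm)
      (IsPEl.coprime ht hs hts hw hcs)
  have hnc_of : ∀ y, C y ≤ D → y ∉ center G := fun y hy hyc => hwc (mem_center_iff.2 fun g =>
    mem_cent.1 (hy (mem_cent.2 (mem_center_iff.1 hyc g))))
  have hwcm : idx (w * c) = m := (S.idx_or (hnc_of _ (hwcC.trans_le inf_le_left))).resolve_right
    fun e => by
      have h1 := (ClassSize.not_dvd_index_iff (p := s) (x := w * c)).2 ⟨P, (le_inf hP hPc).trans hwcC.ge⟩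
      apply h1
      show s ∣ idx (w * c)
      rw [e]; exact hsn.mul_left m
  have hDc : D ≤ C c := S.M_central hwm hcD (IsPEl.coprime ht hs hts hw hcs) hwcm
  have hcD' : C c = D := ((S.M_eq_of_le hwm hcc hDc).2).symm
  have hrel : ∀ (X : Subgroup G) (g : G), X ⊓ D = C g → idx g = m ∨ idx g = m * n →
      X.relIndex D = 1 ∨ X.relIndex D = n := by
    intro X g hX hg
    have h1 : idx g = X.relIndex D * m := by
      rw [← hwm]
      show (C g).index = X.relIndex D * D.index
      rw [← hX, ← inf_relIndex_right, relIndex_mul_index inf_le_right]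
    rcases hg with e | e <;> rw [e] at h1
    · left; exact Nat.eq_of_mul_eq_mul_right (by omega : 0 < m) (by rw [one_mul]; exact h1.symm)
    · right; exact Nat.eq_of_mul_eq_mul_left (by omega : 0 < m) (by rw [h1, mul_comm])
  have hwo : (orderOf w).Coprime q := hw.coprime_prime ht hq htq
  have hsizes : ∀ y : D, idx y = 1 ∨ idx y = n := by
    intro y
    rw [idx_subgroup]
    by_cases hcase : ∃ p : ℕ, p.Prime ∧ p ≠ q ∧ ∃ a ∈ zpowers (y : G), IsPEl p a ∧ ¬ D ≤ C a
    · obtain ⟨p, hp, hpq, a, hay, ha, hna⟩ := hcase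
      have haD : a ∈ D := zpowers_le.2 y.2 hay
      obtain ⟨b, hbC, hbo, hbco⟩ : ∃ b : G, C b = D ∧ (orderOf b).Coprime q ∧
          (orderOf b).Coprime (orderOf a) := by
        by_cases hpt : p = t
        · exact ⟨c, hcD', hcs.coprime_prime hs hq hsq,
            IsPEl.coprime hs hp (fun e => hts (hpt.symm.trans e.symm)) hcs ha⟩
        · exact ⟨w, rfl, hwo, IsPEl.coprime ht hp (Ne.symm hpt) hw ha⟩
      have hbaC : Commute b a := (mem_cent.1 (hbC.symm ▸ haD : a ∈ C b)).symm
      have hba : C (b * a) = D ⊓ C a := by rw [← hbC]; exact cent_mul_of_coprime hbaC hbco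
      have hN : idx (b * a) = m * n := (S.idx_or (hnc_of _ (hba.trans_le inf_le_left))).resolve_left
        fun e => hna (inf_eq_left.1 (hba ▸ eq_of_le_of_index_le (hba.trans_le inf_le_left)
          (le_of_eq (e.trans hwm.symm))))
      have hcomm := S.N_comm hq hqm hN (pow_order_coprime hbaC hbo (ha.coprime_prime hp hq hpq))
      have hyE : (y : G) ∈ C (b * a) := by
        rw [hba]
        refine ⟨y.2, mem_C_comm.1 ?_⟩
        exact C_le_of_mem_zpowers (x := (y : G)) (a := (y : G)) (mem_zpowers _)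
          (zpowers_le.2 (mem_cent.2 rfl) hay)
      refine hrel _ (b * a) ?_ (Or.inr hN)
      refine le_antisymm ?_ (le_inf (le_C_of_comm hcomm hyE) (hba.trans_le inf_le_left))
      rw [hba]
      exact le_inf inf_le_right (inf_le_left.trans (C_le_of_mem_zpowers hay))
    · push Not at hcase
      obtain ⟨a, b, he, hcomm', ha, hb, hay, hby⟩ := ClassSize.exists_pParts (p := q) (y : G)
      have haD : a ∈ D := zpowers_le.2 y.2 hay
      have hbD : D ≤ C b := by
        intro v hv
        have : b ∈ centralizer (D : Set G) := by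
          refine mem_of_parts _ b fun p hp d hd hdp => ?_
          rw [mem_centralizer_iff]
          intro u hu
          by_cases hd1 : d = 1
          · rw [hd1, one_mul, mul_one]
          · have hpq : p ≠ q := fun e => (Nat.Prime.coprime_iff_not_dvd hq).1 hb.symm
              (e ▸ dvd_orderOf_of_part hdp hd hd1)
            exact mem_cent.1 (hcase p hp hpq d (zpowers_le.2 hby hd) hdp hu)
        exact mem_cent.2 (mem_centralizer_iff.1 this v hv)
      have hwa : C (w * a) = D ⊓ C a := cent_mul_of_coprime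
        (show Commute w a from (mem_cent.1 haD).symm)
        (IsPEl.coprime ht hq htq hw ha)
      refine hrel _ (w * a) ?_ (S.idx_or (hnc_of _ (hwa.trans_le inf_le_left)))
      rw [hwa]
      refine le_antisymm (le_inf inf_le_right (inf_le_left.trans (C_le_of_mem_zpowers hay)))
        (le_inf ?_ inf_le_left)
      intro v hv
      rw [mem_cent, he, ← mul_assoc, mem_cent.1 hv.2, mul_assoc, mem_cent.1 (hbD hv.1), mul_assoc]
  have hnc : ∀ (v : D), v ∉ center D ↔ ¬ D ≤ C (v : G) := by
    intro v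
    rw [not_iff_not, mem_center_iff]
    exact ⟨fun h y hy => mem_cent.2 (congrArg Subtype.val (h ⟨y, hy⟩)),
      fun h y => Subtype.ext (mem_cent.1 (h y.2))⟩
  obtain ⟨a, haD, hat, hna⟩ : ∃ a ∈ D, IsPEl t a ∧ ¬ D ≤ C a := by
    by_contra hno
    push Not at hno
    obtain ⟨W, hW⟩ := exists_full t D
    have hwz : C (w * z) = D ⊓ C z := cent_mul_of_coprime
      (show Commute w z from (mem_cent.1 hz).symm) (IsPEl.coprime ht hq htq hw hzq)
    have hle : W ≤ C (w * z) := hwz ▸ le_inf hW.1 fun v hv =>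
      mem_C_comm.1 (hno v (hW.1 hv) (pel_of_mem_pgroup hW.2.1 hv) hz)
    have h1 : vp t D ≤ vp t (C (w * z)) := le_vp_of_pgroup hle hW.2.2
    have h2 := vp_add_idx t w
    have h3 := vp_add_idx t (w * z)
    have hN : idx (w * z) = m * n := (S.idx_or (hnc_of _ (hwz.trans_le inf_le_left))).resolve_left
      fun e => hznc (inf_eq_left.1 (hwz ▸ eq_of_le_of_index_le (hwz.trans_le inf_le_left)
        (le_of_eq (e.trans hwm.symm))))
    rw [hwm, Nat.factorization_eq_zero_of_not_dvd
      (fun h => ht.not_dvd_one (S.cop ▸ Nat.dvd_gcd h htn))] at h2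
    rw [hN] at h3
    have h4 := ht.factorization_pos_of_dvd (by have := S.hn; positivity) (htn.mul_left m)
    rw [← hD] at h2
    omega
  obtain ⟨i, hi⟩ := hat
  obtain ⟨j, hj⟩ := hzq
  exact ClassSizeIto.unique_prime S.hn hsizes ht hq htq
    ((hnc ⟨a, haD⟩).2 hna) ((hnc ⟨z, hz⟩).2 hznc)
    ⟨i, by rwa [Subgroup.orderOf_mk]⟩ ⟨j, by rwa [Subgroup.orderOf_mk]⟩

/-- in a two-prime group the abelian centralisers are the Fitting subgroup -/
theorem cent_eq_fitting {q t : ℕ} (hq : q.Prime) (ht : t.Prime) (hqm : q ∣ m) (htq : t ≠ q)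
    (hpr : ∀ r : ℕ, r.Prime → r ∣ Nat.card G → r = q ∨ r = t) {g : G} (hg : idx g = m * n)
    (hgt : IsPEl t g) : C g = Cfsg.fittingSubgroup G := by
  haveI := Fact.mk hq
  haveI := Fact.mk ht
  have hgo : (orderOf g).Coprime q := hgt.coprime_prime ht hq htq
  have hcomm := S.N_comm hq hqm hg hgo
  obtain ⟨u, hu, huq, huc⟩ := S.exists_qel hq hqm (S.noncentral (Or.inr hg))
  obtain ⟨-, hgu⟩ := S.N_qel hq hqm hg hgo hu huq huc
  obtain ⟨W0, hW0⟩ := exists_full q (C g)
  obtain ⟨T0, hT0⟩ := exists_full t (C g)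
  have hgT : g ∈ T0 := hT0.mem_of_comm hcomm (mem_cent.2 rfl) hgt
  have huW : u ∈ W0 := hW0.mem_of_comm hcomm hu huq
  have hcop : ∀ {W : Subgroup G} {a b : ℕ} (_ : Fact a.Prime) (_ : b.Prime), a ≠ b →
      IsPGroup a W → (Nat.card W).Coprime b := by
    intro W a b ha hb hab hW
    obtain ⟨i, hi⟩ := IsPGroup.iff_card.1 hW
    rw [hi]
    exact ((Nat.coprime_primes ha.out hb).2 hab).pow_left i
  have hzp : ∀ {a : ℕ} {v : G}, IsPEl a v → IsPGroup a (zpowers v) := fun {a v} hv => by
    obtain ⟨i, hi⟩ := hv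
    exact IsPGroup.of_card (n := i) (by rw [Nat.card_zpowers, hi])
  have hnorm : ∀ (N : Subgroup G) [N.Normal] (W : Subgroup G), W ≤ normalizer (N : Set G) :=
    fun N _ W => by rw [Subgroup.normalizer_eq_top]; exact le_top
  have key : ∀ (v : G), v ∈ C g → C v = C g → ∀ W : Subgroup G, W ≤ C g →
      zpowers v ≤ centralizer (W : Set G) ∧
      ∀ X : Subgroup G, X ⊓ centralizer (zpowers v : Set G) ≤ centralizer (W : Set G) := by
    intro v hv hCv W hW
    refine ⟨zpowers_le.2 (mem_centralizer_iff.2 fun y hy => hcomm y (hW hy) v hv), fun X y hy => ?_⟩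
    refine mem_centralizer_iff.2 fun z hz => hcomm z (hW hz) y ?_
    rw [← hCv]
    exact mem_cent.2 (mem_centralizer_iff.1 hy.2 v (mem_zpowers v)).symm
  have hXt : Cfsg.pCore t G ≤ C g := by
    obtain ⟨h1, h2⟩ := key g (mem_cent.2 rfl) rfl W0 hW0.1
    have := Coprime.thompson_PxQ (P := zpowers g) (Q := W0) (U := Cfsg.pCore t G) (hzp hgt)
      (hcop inferInstance ht htq.symm hW0.2.1) PSolvable.pCore_isPGroup h1
      (hnorm _ _) (hnorm _ _) (h2 _)
    rw [le_centralizer_iff] at this
    intro y hy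
    rw [hgu]
    exact mem_cent.2 (mem_centralizer_iff.1 (this hy) u huW).symm
  have hXq : Cfsg.pCore q G ≤ C g := by
    obtain ⟨h1, h2⟩ := key u hu hgu.symm T0 hT0.1
    have := Coprime.thompson_PxQ (P := zpowers u) (Q := T0) (U := Cfsg.pCore q G) (hzp huq)
      (hcop inferInstance hq htq hT0.2.1) PSolvable.pCore_isPGroup h1
      (hnorm _ _) (hnorm _ _) (h2 _)
    rw [le_centralizer_iff] at this
    intro y hy
    exact mem_cent.2 (mem_centralizer_iff.1 (this hy) g hgT).symm
  haveI : Group.IsSolvable G := by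
    refine Burnside.isSolvable_of_card_eq_prime_pow_mul (a := (Nat.card G).factorization q)
      (b := (Nat.card G).factorization t) hq ht ?_
    refine Nat.eq_of_factorization_eq Nat.card_pos.ne'
      (mul_ne_zero (pow_ne_zero _ hq.ne_zero) (pow_ne_zero _ ht.ne_zero)) fun r => ?_
    rw [Nat.factorization_mul (pow_ne_zero _ hq.ne_zero) (pow_ne_zero _ ht.ne_zero),
      hq.factorization_pow, ht.factorization_pow, Finsupp.add_apply, Finsupp.single_apply,
      Finsupp.single_apply]
    by_cases hrq : q = r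
    · subst hrq; simp [htq]
    · by_cases hrt : t = r
      · subst hrt; simp [hrq]
      · rw [if_neg hrq, if_neg hrt]
        by_cases hr : r.Prime
        · exact Nat.factorization_eq_zero_of_not_dvd fun h => by
            rcases hpr r hr h with e | e
            · exact hrq e.symm
            · exact hrt e.symm
        · exact Nat.factorization_eq_zero_of_not_prime _ hr
  have hF : Cfsg.fittingSubgroup G ≤ C g := by
    rw [Fitting.fittingSubgroup_eq_iSup_pCore]
    refine iSup_le fun r => ?_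
    haveI := Fact.mk r.2
    obtain ⟨i, hi⟩ := IsPGroup.iff_card.1 (PSolvable.pCore_isPGroup (p := (r : ℕ)) (G := G))
    rcases Nat.eq_zero_or_pos i with h0 | h0
    · rw [h0, pow_zero, card_eq_one] at hi; rw [hi]; exact bot_le
    · have hd : (r : ℕ) ∣ Nat.card G :=
        ((dvd_pow_self _ h0.ne').trans hi.symm.dvd).trans (card_subgroup_dvd_card _)
      rcases hpr r r.2 hd with e | e <;> rw [e]
      · exact hXq
      · exact hXt
  refine le_antisymm (le_trans ?_ Fitting.centralizer_fittingSubgroup_le) hF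
  intro y hy
  exact mem_centralizer_iff.2 fun z hz => hcomm z (hF hz) y hy

/-- two primes cannot occur -/
theorem no_two_primes {q t : ℕ} (hq : q.Prime) (ht : t.Prime) (hqm : q ∣ m) (htn : t ∣ n)
    (hpr : ∀ r : ℕ, r.Prime → r ∣ Nat.card G → r = q ∨ r = t)
    (hall : ∀ z : G, IsPEl q z → z ∉ center G → idx z = m * n) {g : G} (hg : idx g = m * n)
    (hgt : IsPEl t g) : False := by
  haveI := Fact.mk hq
  haveI := Fact.mk ht
  have htq : t ≠ q := fun e => hq.not_dvd_one (S.cop ▸ Nat.dvd_gcd hqm (e ▸ htn))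
  have hgo : (orderOf g).Coprime q := hgt.coprime_prime ht hq htq
  have hcomm := S.N_comm hq hqm hg hgo
  haveI := Fitting.fittingSubgroup_normal (G := G)
  have hA : C g = Cfsg.fittingSubgroup G := S.cent_eq_fitting hq ht hqm htq hpr hg hgt
  have hconj : ∀ y : G, ∀ a ∈ C g, y * a * y⁻¹ ∈ C g := fun y a ha => by
    rw [hA] at ha ⊢
    exact Subgroup.Normal.conj_mem inferInstance a ha y
  have hgc := S.noncentral (Or.inr hg)
  obtain ⟨W0, hW0⟩ := exists_full q (C g)
  have hall' : ∀ z : G, IsPEl q z → z ∉ center G → C z = C g := by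
    intro z hz hzc
    have hzi := hall z hz hzc
    have hlt : vz G t < vp t (C z) := by
      rw [S.vp_eq_of_idx (hzi.trans hg.symm) t]
      exact vz_lt_C hgt hgc
    obtain ⟨v, hv, hvt, hvc⟩ := exists_noncentral_pel hlt
    rcases S.idx_or hvc with hvm | hvn
    · obtain ⟨T', hT'⟩ := ClassSize.exists_sylow_le_centralizer (p := t) (S.not_dvd_M ht htn hvm)
      obtain ⟨k, hk⟩ := exists_conj_mem_sylow hgt T'
      have hgv : g ∈ C v := by
        have h1 : k * g * k⁻¹ ∈ C g := hconj k g (mem_cent.2 rfl)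
        -- the `t`-part of the normal abelian subgroup `C g` lies in every Sylow subgroup
        obtain ⟨T0, hT0⟩ := exists_full t (C g)
        have hn' : (T' : Subgroup G) ≤ normalizer (T0 : Set G) := by
          intro y _
          rw [mem_normalizer_iff]
          intro a
          refine ⟨fun ha => hT0.mem_of_comm hcomm (hconj y a (hT0.1 ha))
            ((pel_of_mem_pgroup hT0.2.1 ha).conj y), fun ha => ?_⟩
          have := hT0.mem_of_comm hcomm (hconj y⁻¹ _ (hT0.1 ha))
            ((pel_of_mem_pgroup hT0.2.1 ha).conj y⁻¹)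
          simpa [mul_assoc] using this
        exact hT' ((T'.is_maximal' (T'.isPGroup'.to_sup_of_normal_right' hT0.2.1 hn') le_sup_left) ▸
          mem_sup_right (hT0.mem_of_comm hcomm (mem_cent.2 rfl) hgt))
      have hgv' : C g ≤ C v := le_C_of_comm hcomm (mem_C_comm.1 hgv)
      obtain ⟨h, -, hh⟩ := (hW0.of_le (hW0.1.trans hgv')
        (S.vq_eq hq hqm hvc hgc)).conj_mem (mem_C_comm.1 hv) hz
      have hzg : z ∈ C g := by
        have := hconj h⁻¹ _ (hW0.1 hh)
        simpa [mul_assoc] using this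
      exact (S.N_primary hq hqm hg hgo hq hqm hzg hz hzc).2
    · have hvo : (orderOf v).Coprime q := hvt.coprime_prime ht hq htq
      rw [(S.N_primary hq hqm hvn hvo hq hqm (mem_C_comm.1 hv) hz hzc).2,
        S.cent_eq_fitting hq ht hqm htq hpr hvn hvt, hA]
  have htop : C g = ⊤ := ClassSize.eq_top_of_forall_exists_conj_mem _ fun x => by
    refine ⟨1, ?_⟩
    rw [one_mul, inv_one, mul_one]
    by_cases hx : x ∈ center G
    · exact center_le_C g hx
    · obtain ⟨z, hz, hzq, hzc⟩ := S.exists_qel hq hqm hx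
      exact hall' z hzq hzc ▸ mem_C_comm.1 hz
  exact hgc (mem_center_iff.2 fun y => mem_cent.1 (htop ▸ mem_top y : y ∈ C g))

end Sizes

end Cfsg.Agent.Lib.ClassSizeMMN
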