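import Cfsg.Agent.Lib.ClassSizeMMN.DLemma

/-!
There are no two primes whose noncentral primary elements have abelian centralisers of constant
order, covering the group.
-/

set_option autoImplicit false
set_option linter.style.haveILetI false

namespace Cfsg.Agent.Lib.ClassSizeMMN

open Subgroup Cfsg.Agent.Lib.ClassSizeTop
open scoped Pointwise

variable {G : Type*} [Group G] [Finite G]

/-- the hypothesis on one prime -/
def AbCent (G : Type*) [Group G] (p ep s es : ℕ) : Prop :=
  ∀ x : G, IsPEl p x → x ∉ center G →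
    (∀ a ∈ C x, ∀ b ∈ C x, a * b = b * a) ∧ vp p (C x) = ep ∧ vp s (C x) = es

theorem IsFull.mem_of_comm {p : ℕ} [Fact p.Prime] {H W : Subgroup G} (hW : IsFull p H W)
    (hc : ∀ a ∈ H, ∀ b ∈ H, a * b = b * a) {x : G} (hx : x ∈ H) (hxp : IsPEl p x) : x ∈ W := by
  obtain ⟨h, hh, hhx⟩ := hW.conj_mem hx hxp
  rwa [hc h hh x hx, mul_inv_cancel_right] at hhx

theorem C_eq_of_mem {p ep s es : ℕ} (hp : AbCent G p ep s es) (hs : AbCent G s es p ep)
    {t : ℕ} (ht : t = p ∨ t = s) {a x : G} (ha : IsPEl p a) (hac : a ∉ center G) (hx : x ∈ C a)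
    (hxt : IsPEl t x) (hxc : x ∉ center G) : C x = C a := by
  refine le_antisymm (le_C_of_comm ?_ (mem_C_comm.1 hx)) (le_C_of_comm (hp a ha hac).1 hx)
  rcases ht with rfl | rfl
  · exact (hp x hxt hxc).1
  · exact (hs x hxt hxc).1

theorem exists_normalized_cent {p : ℕ} [Fact p.Prime] (h : ∃ x : G, IsPEl p x ∧ x ∉ center G) :
    ∃ (P : Sylow p G) (a : G), a ∈ (P : Subgroup G) ∧ IsPEl p a ∧ a ∉ center G ∧
      ∀ c ∈ (P : Subgroup G), c * a * c⁻¹ * a⁻¹ ∈ center G := by
  obtain ⟨x, hx, hxc⟩ := h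
  obtain ⟨P⟩ : Nonempty (Sylow p G) := inferInstance
  obtain ⟨g, hg⟩ := exists_conj_mem_sylow hx P
  let N : Subgroup (P : Subgroup G) := (center G).subgroupOf (P : Subgroup G)
  haveI : Nontrivial ((P : Subgroup G) ⧸ N) := by
    refine ⟨⟨QuotientGroup.mk ⟨_, hg⟩, 1, fun e => ?_⟩⟩
    exact not_central_conj hxc g (mem_subgroupOf.1 ((QuotientGroup.eq_one_iff _).1 e))
  haveI := (P.isPGroup'.to_quotient N).center_nontrivial
  obtain ⟨⟨b, hb⟩, hb1⟩ := exists_ne (1 : center ((P : Subgroup G) ⧸ N))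
  induction b using QuotientGroup.induction_on with
  | _ a =>
    have hac : (a : G) ∉ center G := fun hc =>
      hb1 (Subtype.ext ((QuotientGroup.eq_one_iff a).2 (mem_subgroupOf.2 hc)))
    refine ⟨P, a, a.2, pel_of_mem_pgroup P.isPGroup' a.2, hac, fun c hc => ?_⟩
    have h1 := mem_center_iff.1 hb (QuotientGroup.mk (⟨c, hc⟩ : (P : Subgroup G)))
    rw [← mul_inv_eq_iff_eq_mul] at h1
    have h2 : (⟨c, hc⟩ * a * (⟨c, hc⟩)⁻¹ * a⁻¹ : (P : Subgroup G)) ∈ N := by
      rw [← QuotientGroup.eq_one_iff]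
      simp only [QuotientGroup.mk_mul, QuotientGroup.mk_inv, h1, mul_inv_cancel]
    exact mem_subgroupOf.1 h2

/-- the two inequalities for one of the primes -/
theorem ab_bounds {p s ep es : ℕ} [hp' : Fact p.Prime] [hs' : Fact s.Prime] (hps : p ≠ s)
    (hep : vz G p < ep) (hes : vz G s < es) (hp : AbCent G p ep s es) (hs : AbCent G s es p ep)
    (hex : ∃ x : G, IsPEl p x ∧ x ∉ center G)
    (hcov : ∀ g : G, g ∉ center G → ∃ u ∈ C g, IsPEl p u ∧ u ∉ center G) :
    p ^ ((Nat.card G).factorization p - ep) < s ^ (es - vz G s) ∧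
      p ^ (ep - vz G p) ≤ p ^ ((Nat.card G).factorization p - ep) := by
  obtain ⟨P, a, -, ha, hac, hnorm⟩ := exists_normalized_cent hex
  obtain ⟨hcomm, hvp, hvs⟩ := hp a ha hac
  obtain ⟨W0, hW0⟩ := exists_full p (C a)
  have hWc : Nat.card W0 = p ^ ep := by rw [hW0.2.2, hvp]
  have hcC : ∀ c ∈ (P : Subgroup G), ∀ w ∈ C a, c * w * c⁻¹ ∈ C a := by
    intro c hc w hw
    have h1 := conj_mem_C hw c
    rw [show c * a * c⁻¹ = c * a * c⁻¹ * a⁻¹ * a by group] at h1
    rwa [show C (c * a * c⁻¹ * a⁻¹ * a) = C a from cent_mul_central (hnorm c hc)] at h1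
  have hcW : ∀ c ∈ (P : Subgroup G), ∀ w ∈ W0, c * w * c⁻¹ ∈ W0 := fun c hc w hw =>
    hW0.mem_of_comm hcomm (hcC c hc w (hW0.1 hw)) ((pel_of_mem_pgroup hW0.2.1 hw).conj c)
  have hW0P : W0 ≤ (P : Subgroup G) := by
    have hnm : (P : Subgroup G) ≤ normalizer (W0 : Set G) := by
      intro c hc
      rw [mem_normalizer_iff]
      intro w
      refine ⟨hcW c hc w, fun hw => ?_⟩
      have := hcW c⁻¹ (inv_mem hc) _ hw
      simpa [mul_assoc] using this
    exact (P.is_maximal' (P.isPGroup'.to_sup_of_normal_right' hW0.2.1 hnm) le_sup_left) ▸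
      le_sup_right
  have hα : ep ≤ (Nat.card G).factorization p := by
    rw [← hvp]; exact (Nat.le_add_right _ _).trans (vp_add_idx p a).le
  have hPc : Nat.card (P : Subgroup G) = p ^ (Nat.card G).factorization p := P.card_eq_multiplicity
  constructor
  · -- semiregular action on the `s`-part
    obtain ⟨x, hxC, hxs, hxc⟩ := exists_noncentral_pel (p := s) (H := C a) (hvs ▸ hes)
    have hxa : C x = C a := C_eq_of_mem hp hs (Or.inr rfl) ha hac hxC hxs hxc
    obtain ⟨Ws, hWs⟩ := exists_full s (C a)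
    have hmem : ∀ c ∈ (P : Subgroup G), c * x * c⁻¹ ∈ Ws := fun c hc =>
      hWs.mem_of_comm hcomm (hcC c hc x hxC) (hxs.conj c)
    let Zs : Subgroup Ws := (center G).subgroupOf Ws
    let f : (P : Subgroup G) ⧸ W0.subgroupOf (P : Subgroup G) → Ws ⧸ Zs := fun c =>
      QuotientGroup.mk ⟨c.out * x * (c.out : G)⁻¹, hmem _ c.out.2⟩
    have hinj : Function.Injective f := by
      intro c c' e
      rw [QuotientGroup.eq, mem_subgroupOf] at e
      simp only [Subgroup.coe_mul, Subgroup.coe_inv] at e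
      have hd : (c.out : G)⁻¹ * c'.out ∈ C a := by
        rw [← hxa]
        set d := (c.out : G)⁻¹ * c'.out with hd
        have e1 := Subgroup.Normal.conj_mem inferInstance _ e (c.out : G)⁻¹
        have e2 : d * x * d⁻¹ * x⁻¹ ∈ center G := by
          have : x⁻¹ * (d * x * d⁻¹) ∈ center G := by
            convert e1 using 1; rw [hd]; group
          rw [show d * x * d⁻¹ * x⁻¹ = x * (x⁻¹ * (d * x * d⁻¹)) * x⁻¹ by group]
          exact Subgroup.Normal.conj_mem inferInstance _ this x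
        refine mem_cent.2 (ClassSizeIto.commute_of_mod_center e2 ?_)
        exact IsPEl.coprime hp'.out hs'.out hps
          (pel_of_mem_pgroup P.isPGroup' (mul_mem (inv_mem c.out.2) c'.out.2)) hxs
      rw [← QuotientGroup.out_eq' c, ← QuotientGroup.out_eq' c', QuotientGroup.eq, mem_subgroupOf]
      exact hW0.mem_of_comm hcomm hd
        (pel_of_mem_pgroup P.isPGroup' (mul_mem (inv_mem c.out.2) c'.out.2))
    haveI := Fintype.ofFinite ((P : Subgroup G) ⧸ W0.subgroupOf (P : Subgroup G))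
    haveI := Fintype.ofFinite (Ws ⧸ Zs)
    have h1 : Nat.card ((P : Subgroup G) ⧸ W0.subgroupOf (P : Subgroup G)) < Nat.card (Ws ⧸ Zs) := by
      rw [Nat.card_eq_fintype_card, Nat.card_eq_fintype_card]
      refine Fintype.card_lt_of_injective_of_notMem f hinj (b := 1) ?_
      rintro ⟨c, hc⟩
      have := mem_subgroupOf.1 ((QuotientGroup.eq_one_iff _).1 hc)
      exact not_central_conj hxc _ this
    have h2 : Nat.card ((P : Subgroup G) ⧸ W0.subgroupOf (P : Subgroup G)) * p ^ ep =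
        p ^ (Nat.card G).factorization p := by
      rw [← hPc, ← hWc, ← Nat.card_congr (subgroupOfEquivOfLe hW0P).toEquiv]
      exact (card_eq_card_quotient_mul_card_subgroup _).symm
    have h3 : Nat.card (Ws ⧸ Zs) * Nat.card Zs = s ^ es := by
      rw [← hvs, ← hWs.2.2]
      exact (card_eq_card_quotient_mul_card_subgroup _).symm
    have h4 : s ^ vz G s ≤ Nat.card Zs := by
      obtain ⟨Wz, hWz⟩ := exists_full s (center G)
      have hle : Wz ≤ Ws := fun w hw => hWs.mem_of_comm hcomm (center_le_C a (hWz.1 hw))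
        (pel_of_mem_pgroup hWz.2.1 hw)
      refine Nat.le_of_dvd Nat.card_pos ?_
      rw [show s ^ vz G s = Nat.card Wz from hWz.2.2.symm,
        ← Nat.card_congr (subgroupOfEquivOfLe hle).toEquiv]
      exact card_dvd_of_le fun w hw => mem_subgroupOf.2 (hWz.1 (mem_subgroupOf.1 hw))
    have h5 : p ^ ((Nat.card G).factorization p - ep) =
        Nat.card ((P : Subgroup G) ⧸ W0.subgroupOf (P : Subgroup G)) := by
      refine Nat.eq_of_mul_eq_mul_right (pow_pos hp'.out.pos ep) ?_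
      rw [h2, ← pow_add, Nat.sub_add_cancel hα]
    rw [h5]
    refine h1.trans_le ?_
    refine Nat.le_of_mul_le_mul_right (c := s ^ vz G s) ?_ (pow_pos hs'.out.pos _)
    rw [← pow_add, Nat.sub_add_cancel hes.le, ← h3]
    exact Nat.mul_le_mul_left _ h4
  · -- a centraliser which is not conjugate to `C a`
    obtain ⟨b, hb, hbc, hbn⟩ : ∃ b : G, IsPEl p b ∧ b ∉ center G ∧
        ∀ g : G, C (g * b * g⁻¹) ≠ C a := by
      by_contra hno
      push Not at hno
      have htop : C a = ⊤ := ClassSize.eq_top_of_forall_exists_conj_mem _ fun g => by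
        by_cases hg : g ∈ center G
        · exact ⟨1, center_le_C a (by simpa using hg)⟩
        · obtain ⟨u, hu, hup, huc⟩ := hcov g hg
          obtain ⟨k, hk⟩ := hno u hup huc
          exact ⟨k, hk ▸ conj_mem_C (mem_C_comm.1 hu) k⟩
      exact hac (mem_center_iff.2 fun y => mem_cent.1 (htop ▸ mem_top y : y ∈ C a))
    obtain ⟨Wb, hWb⟩ := exists_full p (C b)
    obtain ⟨R, hR⟩ := hWb.2.1.exists_le_sylow
    obtain ⟨k, hk⟩ := MulAction.exists_smul_eq G R P
    have hkP : ∀ w ∈ Wb, k * w * k⁻¹ ∈ (P : Subgroup G) := fun w hw => by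
      rw [← hk, Sylow.coe_subgroup_smul, Subgroup.mem_pointwise_smul_iff_inv_smul_mem]
      simpa [MulAut.smul_def, mul_assoc] using hR hw
    let Zb : Subgroup Wb := (center G).subgroupOf Wb
    let f : W0 × (Wb ⧸ Zb) → (P : Subgroup G) := fun wc =>
      ⟨(wc.1 : G) * (k * (wc.2.out : G) * k⁻¹),
        mul_mem (hW0P wc.1.2) (hkP _ wc.2.out.2)⟩
    have hinj : Function.Injective f := by
      rintro ⟨w, c⟩ ⟨w', c'⟩ e
      have e' : (w : G) * (k * c.out * k⁻¹) = w' * (k * c'.out * k⁻¹) := congrArg Subtype.val e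
      have e1 : k * (c.out * (c'.out : G)⁻¹) * k⁻¹ = (w : G)⁻¹ * w' := by
        calc k * (c.out * (c'.out : G)⁻¹) * k⁻¹
            = (w : G)⁻¹ * ((w : G) * (k * c.out * k⁻¹)) * (k * c'.out * k⁻¹)⁻¹ := by group
          _ = (w : G)⁻¹ * w' := by rw [e']; group
      have hy : (c.out : G) * (c'.out : G)⁻¹ ∈ center G := by
        by_contra hyc
        have hyWb : (c.out : G) * (c'.out : G)⁻¹ ∈ Wb := mul_mem c.out.2 (inv_mem c'.out.2)
        have hyp := pel_of_mem_pgroup hWb.2.1 hyWb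
        have h1 : C ((c.out : G) * (c'.out : G)⁻¹) = C b :=
          C_eq_of_mem hp hs (Or.inl rfl) hb hbc (hWb.1 hyWb) hyp hyc
        have h2 : C (k * (c.out * (c'.out : G)⁻¹) * k⁻¹) = C a :=
          C_eq_of_mem hp hs (Or.inl rfl) ha hac (hW0.1 (e1 ▸ mul_mem (inv_mem w.2) w'.2))
            (hyp.conj k) (not_central_conj hyc k)
        refine hbn k ?_
        rw [← h2, show C (k * (c.out * (c'.out : G)⁻¹) * k⁻¹) = _ from cent_conj k _]
        exact (cent_conj k b).trans (congrArg _ h1.symm)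
      have hc : c = c' := by
        rw [← QuotientGroup.out_eq' c, ← QuotientGroup.out_eq' c', QuotientGroup.eq, mem_subgroupOf]
        have h3 := mem_center_iff.1 hy (c.out : G)
        simp only [Subgroup.coe_mul, Subgroup.coe_inv]
        have h4 : ((c.out : G)⁻¹ * c'.out) = ((c.out : G) * (c'.out : G)⁻¹)⁻¹ := by
          calc (c.out : G)⁻¹ * c'.out = (c.out : G)⁻¹ * ((c.out : G) * (c'.out : G)⁻¹)⁻¹ * c.out := by group
            _ = _ := by
              rw [mul_assoc, ← mem_center_iff.1 (inv_mem hy) (c.out : G), inv_mul_cancel_left]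
        rw [h4]
        exact inv_mem hy
      subst hc
      exact Prod.ext (Subtype.ext (mul_right_cancel e')) rfl
    have h1 := Nat.card_le_card_of_injective f hinj
    rw [Nat.card_prod, hWc, hPc] at h1
    have h2 : Nat.card (Wb ⧸ Zb) * Nat.card Zb = p ^ ep := by
      rw [← (hp b hb hbc).2.1, ← hWb.2.2]
      exact (card_eq_card_quotient_mul_card_subgroup _).symm
    have h3 : Nat.card Zb ≤ p ^ vz G p := by
      obtain ⟨j, hj⟩ := IsPGroup.iff_card.1 ((hWb.2.1.to_subgroup Zb).map Wb.subtype)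
      rw [card_map_of_injective Wb.subtype_injective] at hj
      rw [hj]
      refine Nat.pow_le_pow_right hp'.out.pos (le_vp_of_pgroup (W := Zb.map Wb.subtype) ?_ ?_)
      · rintro _ ⟨w, hw, rfl⟩
        exact mem_subgroupOf.1 hw
      · rw [card_map_of_injective Wb.subtype_injective, hj]
    calc p ^ (ep - vz G p) ≤ Nat.card (Wb ⧸ Zb) := by
          refine Nat.le_of_mul_le_mul_right (c := p ^ vz G p) ?_ (pow_pos hp'.out.pos _)
          rw [← pow_add, Nat.sub_add_cancel hep.le, ← h2]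
          exact Nat.mul_le_mul_left _ h3
      _ ≤ p ^ ((Nat.card G).factorization p - ep) := by
          refine le_of_mul_le_mul_left ?_ (pow_pos hp'.out.pos ep)
          rwa [← pow_add, Nat.add_sub_cancel' hα]

theorem false_of_abCent {p s ep es : ℕ} [Fact p.Prime] [Fact s.Prime] (hps : p ≠ s)
    (hep : vz G p < ep) (hes : vz G s < es) (hp : AbCent G p ep s es) (hs : AbCent G s es p ep)
    (hex : ∃ x : G, IsPEl p x ∧ x ∉ center G)
    (hcov : ∀ g : G, g ∉ center G → ∃ u ∈ C g, IsPEl p u ∧ u ∉ center G) : False := by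
  have hcov' : ∀ g : G, g ∉ center G → ∃ v ∈ C g, IsPEl s v ∧ v ∉ center G := by
    intro g hg
    obtain ⟨u, hu, hup, huc⟩ := hcov g hg
    obtain ⟨v, hv, hvs, hvc⟩ :=
      exists_noncentral_pel (p := s) (H := C u) ((hp u hup huc).2.2 ▸ hes)
    exact ⟨v, mem_C_comm.1 (C_eq_of_mem hp hs (Or.inr rfl) hup huc hv hvs hvc ▸
      mem_C_comm.1 hu), hvs, hvc⟩
  have hex' : ∃ x : G, IsPEl s x ∧ x ∉ center G := by
    obtain ⟨x, hx, hxc⟩ := hex
    obtain ⟨v, -, h⟩ := hcov' x hxc
    exact ⟨v, h⟩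
  have h1 := ab_bounds hps hep hes hp hs hex hcov
  have h2 := ab_bounds (Ne.symm hps) hes hep hs hp hex' hcov'
  exact lt_irrefl _ (((h1.2.trans_lt h1.1).trans_le h2.2).trans h2.1)

end Cfsg.Agent.Lib.ClassSizeMMN
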